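import Groth.Agent.L08.TorusQuot.LaurentUFD
import Groth.Agent.L25.UnipExt
import Mathlib.RingTheory.Bialgebra.MonoidAlgebra
import Mathlib.RingTheory.HopfAlgebra.GroupLike
import Mathlib.LinearAlgebra.FreeModule.PID
import Mathlib.GroupTheory.Finiteness
import Mathlib.FieldTheory.IsAlgClosed.Basic

/-!
# Characters of an affine group variety form a lattice
-/

set_option autoImplicit false
set_option linter.style.haveILetI false
set_option linter.unusedSectionVars false

universe u

open TensorProduct

noncomputable section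

namespace Groth.L08.TorusQuot

variable {k : Type u} [Field k] {A : Type u} [CommRing A] [HopfAlgebra k A]
  [Algebra.FiniteType k A]

theorem liftGroupLike_injective :
    Function.Injective (MonoidAlgebra.liftGroupLikeBialgHom : MonoidAlgebra k (GroupLike k A) →ₐc[k] A) := by
  intro x y hxy
  have h : ∀ z : MonoidAlgebra k (GroupLike k A), MonoidAlgebra.liftGroupLikeBialgHom z =
      Finsupp.linearCombination k (fun g : GroupLike k A => g.val) z.coeff := by
    intro z
    induction z using MonoidAlgebra.induction_linear with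
    | zero => simp
    | add a b ha hb => simp only [map_add, ha, hb, MonoidAlgebra.coeff_add]
    | single g c => simp [Algebra.smul_def]
  rw [h, h] at hxy
  exact MonoidAlgebra.coeff_injective (linearIndep_groupLikeVal hxy)

/-- the bialgebra map of a subgroup of group-like elements -/
def ofSub (H : Subgroup (GroupLike k A)) : MonoidAlgebra k H →ₐc[k] A :=
  MonoidAlgebra.liftGroupLikeBialgHom.comp (MonoidAlgebra.mapDomainBialgHom k H.subtype)

theorem ofSub_single (H : Subgroup (GroupLike k A)) (h : H) :
    ofSub H (MonoidAlgebra.single h 1) = (h : GroupLike k A).val := by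
  simp [ofSub]

theorem ofSub_injective (H : Subgroup (GroupLike k A)) : Function.Injective (ofSub H) := by
  intro x y hxy
  have h1 : MonoidAlgebra.mapDomainBialgHom k H.subtype x = MonoidAlgebra.mapDomainBialgHom k H.subtype y :=
    liftGroupLike_injective hxy
  exact MonoidAlgebra.mapDomain_injective H.subtype_injective h1

/-- **characters are finitely generated** -/
theorem groupLike_fg : Group.FG (GroupLike k A) := by
  classical
  haveI : IsNoetherianRing A := Algebra.FiniteType.isNoetherianRing k A
  let I : Subgroup (GroupLike k A) → Ideal A := fun H =>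
    Ideal.span ((fun g : GroupLike k A => g.val - 1) '' (H : Set (GroupLike k A)))
  obtain ⟨J, ⟨H, hH, rfl⟩, hmax⟩ := set_has_maximal_iff_noetherian.2 (inferInstance : IsNoetherian A A)
    {J | ∃ H : Subgroup (GroupLike k A), H.FG ∧ I H = J} ⟨_, ⊥, Subgroup.FG.bot, rfl⟩
  suffices H = ⊤ from Group.fg_def.2 (this ▸ hH)
  rw [eq_top_iff]
  intro g _
  have hle : I H ≤ I (H ⊔ Subgroup.closure {g}) :=
    Ideal.span_mono (Set.image_mono fun x hx => Subgroup.mem_sup_left hx)
  have heq : I (H ⊔ Subgroup.closure {g}) = I H := by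
    refine (eq_of_le_of_not_lt hle ?_).symm
    exact hmax _ ⟨_, hH.sup ⟨{g}, by simp⟩, rfl⟩
  have hgI : g.val - 1 ∈ I H := heq ▸ Ideal.subset_span
    ⟨g, Subgroup.mem_sup_right (Subgroup.subset_closure rfl), rfl⟩
  let ψ := ofSub H
  let J := Ideal.map (ψ : MonoidAlgebra k H →+* A) (RingHom.ker (Bialgebra.counitAlgHom k (MonoidAlgebra k H)))
  have hIJ : I H ≤ J := by
    refine Ideal.span_le.2 ?_
    rintro _ ⟨h, hh, rfl⟩
    have : ψ (MonoidAlgebra.single ⟨h, hh⟩ 1 - 1) = h.val - 1 := by
      rw [map_sub, map_one]; congr 1; exact ofSub_single H ⟨h, hh⟩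
    show h.val - 1 ∈ J
    rw [← this]
    refine Ideal.mem_map_of_mem _ ?_
    show (Bialgebra.counitAlgHom k (MonoidAlgebra k H)) _ = 0
    rw [map_sub, map_one, sub_eq_zero]
    exact (MonoidAlgebra.isGroupLikeElem_single_one (R := k) (A := k) (⟨h, hh⟩ : H)).counit_eq_one
  have hg1 : Ideal.Quotient.mkₐ k J g.val = 1 := by
    rw [← map_one (Ideal.Quotient.mkₐ k J)]
    exact Ideal.Quotient.eq.2 (hIJ hgI)
  obtain ⟨c, hc⟩ := Groth.L25.UnipExt.mem_range_of_fixed ψ (J := J) rfl (a := g.val) (by
    rw [g.isGroupLikeElem_val.comul_eq_tmul_self, TensorProduct.map_tmul]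
    show g.val ⊗ₜ[k] (Ideal.Quotient.mkₐ k J g.val) = _
    rw [hg1])
  have hcgl : IsGroupLikeElem k c := by
    refine ⟨?_, ?_⟩
    · rw [← CoalgHomClass.counit_comp_apply ψ c]
      exact (congrArg _ hc).trans g.isGroupLikeElem_val.counit_eq_one
    · have hinj : Function.Injective (TensorProduct.map (ψ : MonoidAlgebra k H →ₗ[k] A) (ψ : MonoidAlgebra k H →ₗ[k] A)) :=
        TensorProduct.map_injective_of_flat_flat _ _ (ofSub_injective H) (ofSub_injective H)
      refine hinj ?_
      rw [show TensorProduct.map (ψ : MonoidAlgebra k H →ₗ[k] A) (ψ : MonoidAlgebra k H →ₗ[k] A)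
          (Coalgebra.comul c) = Coalgebra.comul (R := k) (ψ c) from CoalgHomClass.map_comp_comul_apply ψ c,
        TensorProduct.map_tmul, show ψ c = g.val from hc, g.isGroupLikeElem_val.comul_eq_tmul_self]
      exact (congrArg₂ (· ⊗ₜ[k] ·) hc hc).symm
  obtain ⟨h, rfl⟩ := MonoidAlgebra.isGroupLikeElem_iff_mem_range_single_one.1 hcgl
  have : (h : GroupLike k A) = g := GroupLike.val_injective ((ofSub_single H h).symm.trans hc)
  exact this ▸ h.2

variable [IsDomain A]

/-- **characters have no torsion** -/
theorem groupLike_eq_one_of_pow [IsAlgClosed k] (g : GroupLike k A) {n : ℕ} (hn : 0 < n) (h : g ^ n = 1) :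
    g = 1 := by
  have hpow : g.val ^ n = 1 := by
    have h1 : ∀ m : ℕ, (g ^ m).val = g.val ^ m := fun m => by
      induction m with
      | zero => rw [pow_zero, pow_zero]; rfl
      | succ m ih => rw [pow_succ, pow_succ, ← ih]; rfl
    rw [← h1, h]; rfl
  have hint : _root_.IsIntegral k g.val := ⟨Polynomial.X ^ n - 1, Polynomial.monic_X_pow_sub_C _ hn.ne', by simp [hpow]⟩
  obtain ⟨c, hc⟩ := minpoly.degree_eq_one_iff.1 (IsAlgClosed.degree_eq_one_of_irreducible k (minpoly.irreducible hint))
  have h2 := congrArg (Coalgebra.counit (R := k)) hc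
  rw [g.isGroupLikeElem_val.counit_eq_one] at h2
  have hc1 : c = 1 := by simpa using h2
  refine GroupLike.val_injective ?_
  rw [← hc, hc1, map_one]
  rfl

/-- the largest torus quotient of an affine group variety, in coordinates -/
theorem exists_charHom [IsAlgClosed k] :
    ∃ (r : ℕ) (f : Laur k r →ₐc[k] A), Function.Injective f ∧ ∀ a : A, IsGroupLikeElem k a → a ∈ Set.range f := by
  classical
  haveI : Module.Finite ℤ (Additive (GroupLike k A)) :=
    Module.Finite.iff_addGroup_fg.2 (GroupFG.iff_add_fg.1 groupLike_fg)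
  haveI : IsMulTorsionFree (GroupLike k A) := by
    refine ⟨fun n hn a b hab => ?_⟩
    have : (a / b) ^ n = 1 := by rw [div_pow, show a ^ n = b ^ n from hab, div_self']
    exact div_eq_one.1 (groupLike_eq_one_of_pow _ (Nat.pos_of_ne_zero hn) this)
  haveI : Module.Free ℤ (Additive (GroupLike k A)) := Module.free_of_finite_type_torsion_free'
  let b := Module.finBasis ℤ (Additive (GroupLike k A))
  let e : Multiplicative (Fin (Module.finrank ℤ (Additive (GroupLike k A))) → ℤ) ≃* GroupLike k A :=
    (b.equivFun.symm.toAddEquiv).toMultiplicative.trans (MulEquiv.multiplicativeAdditive (GroupLike k A))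
  refine ⟨_, MonoidAlgebra.liftGroupLikeBialgHom.comp (MonoidAlgebra.mapDomainBialgHom k e.toMonoidHom), ?_, ?_⟩
  · intro x y hxy
    have h1 : MonoidAlgebra.mapDomainBialgHom k e.toMonoidHom x = MonoidAlgebra.mapDomainBialgHom k e.toMonoidHom y :=
      liftGroupLike_injective hxy
    exact MonoidAlgebra.mapDomain_injective e.injective h1
  · intro a ha
    refine ⟨MonoidAlgebra.single (e.symm ⟨a, ha⟩) 1, ?_⟩
    simp

end Groth.L08.TorusQuot
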