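import Groth.Agent.L08.TorusQuot.Invariant
import Mathlib.Algebra.GCDMonoid.Finset
import Mathlib.RingTheory.UniqueFactorizationDomain.GCDMonoid

/-!
# The kernel of the largest torus quotient of an affine group variety has no characters
-/

set_option autoImplicit false
set_option linter.style.haveILetI false
set_option linter.unusedSectionVars false
set_option backward.isDefEq.respectTransparency.types false

universe u

open TensorProduct WithConv

noncomputable section

namespace Groth.L08.TorusQuot

variable {k : Type u} [Field k] [IsAlgClosed k] {A : Type u} [CommRing A] [IsDomain A] [HopfAlgebra k A]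
  [Algebra.FiniteType k A] {r : ℕ} {f : Laur k r →ₐc[k] A}

/-- multiplicative on the points of the kernel -/
def IsCharOn (f : Laur k r →ₐc[k] A) (g : A) : Prop :=
  Coalgebra.counit (R := k) g = 1 ∧ ∀ (R : Type u) [CommRing R] [Algebra k R] (x y : Pt k A R),
    pre f x = 1 → pre f y = 1 → (x * y).ofConv g = x.ofConv g * y.ofConv g

theorem pre_pinv {R : Type u} [CommRing R] [Algebra k R] {x : Pt k A R} (hx : pre f x = 1) :
    pre f (pinv x) = 1 :=
  calc pre f (pinv x) = pre f (pinv x) * pre f x := by rw [hx, mul_one]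
    _ = 1 := by rw [← map_mul, pinv_mul, map_one]

theorem exists_sum_of_mem_mul {B A : Type u} [CommRing B] [CommRing A] [Algebra B A] {M M' : Submodule B A}
    {z : A} (hz : z ∈ M * M') :
    ∃ (n : ℕ) (m m' : Fin n → A), (∀ i, m i ∈ M) ∧ (∀ i, m' i ∈ M') ∧ ∑ i, m i * m' i = z := by
  induction hz using Submodule.mul_induction_on' with
  | mem_mul_mem a ha b hb => exact ⟨1, fun _ => a, fun _ => b, fun _ => ha, fun _ => hb, by simp⟩
  | add x _ y _ hx hy =>
    obtain ⟨n, m, m', hm, hm', rfl⟩ := hx
    obtain ⟨p, q, q', hq, hq', rfl⟩ := hy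
    refine ⟨n + p, Fin.append m q, Fin.append m' q', Fin.addCases (by simpa using hm) (by simpa using hq),
      Fin.addCases (by simpa using hm') (by simpa using hq'), ?_⟩
    simp [Fin.sum_univ_add]

theorem pinv_mul_comp {R : Type u} [CommRing R] [Algebra k R] (a b c : Pt k A R) :
    pinv a * b * (pinv b * c) = pinv a * c := by
  rw [mul_assoc, ← mul_assoc b, mul_pinv, one_mul]

theorem dvd_gcd_mul {B ι : Type*} [CommRing B] [IsDomain B] [NormalizedGCDMonoid B] (s : Finset ι) (x : ι → B)
    {c y : B} (h : ∀ i ∈ s, c ∣ x i * y) : c ∣ s.gcd x * y := by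
  classical
  induction s using Finset.induction_on with
  | empty => simp
  | insert a t ha ih =>
    rw [Finset.gcd_insert]
    exact (dvd_gcd (h a (Finset.mem_insert_self a t)) (ih fun i hi => h i (Finset.mem_insert_of_mem hi))).trans
      (_root_.gcd_mul_right' y (x a) (t.gcd x)).dvd

/-- an invertible submodule over a factorial domain is principal -/
theorem exists_generator {B A : Type u} [CommRing B] [IsDomain B] [UniqueFactorizationMonoid B] [CommRing A]
    [IsDomain A] [Algebra B A] (hinj : Function.Injective (algebraMap B A)) {n : ℕ} (m m' : Fin n → A)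
    (hsum : ∑ i, m i * m' i = 1) (hB : ∀ i j, ∃ b : B, algebraMap B A b = m i * m' j) :
    ∃ t : Fin n → B, IsUnit (∑ i, t i • m i) := by
  classical
  letI : NormalizedGCDMonoid B := Classical.arbitrary _
  choose b hb using hB
  obtain ⟨o, ho⟩ : ∃ o, b o o ≠ 0 := by
    by_contra! h
    refine one_ne_zero (α := A) ?_
    rw [← hsum]
    exact Finset.sum_eq_zero fun i _ => by rw [← hb, h, map_zero]
  have hm'o : m' o ≠ 0 := fun h => ho (hinj (by rw [hb, h, mul_zero, map_zero]))
  let d := Finset.univ.gcd fun i => b i o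
  have hd : ∀ i, d ∣ b i o := fun i => Finset.gcd_dvd (Finset.mem_univ i)
  choose s hs using hd
  have hy : ∀ j, b o o ∣ d * b o j := by
    intro j
    exact dvd_gcd_mul _ _ fun i _ => ⟨b i j, hinj (by rw [map_mul, map_mul, hb, hb, hb, hb]; ring)⟩
  choose t ht using hy
  have hd0 : d ≠ 0 := fun h => ho (by rw [hs o, h, zero_mul])
  have hst : ∑ i, s i * t i = 1 := by
    have hc : ∑ i, b i o * b o i = b o o := hinj (by
      rw [map_sum, hb]
      calc ∑ i, algebraMap B A (b i o * b o i) = ∑ i, (m o * m' o) * (m i * m' i) :=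
            Finset.sum_congr rfl fun i _ => by rw [map_mul, hb, hb]; ring
        _ = m o * m' o := by rw [← Finset.mul_sum, hsum, mul_one])
    refine mul_left_cancel₀ ho ?_
    rw [mul_one, Finset.mul_sum]
    refine Eq.trans (Finset.sum_congr rfl fun i _ => ?_) hc
    rw [hs i, show d * s i * b o i = s i * (d * b o i) by ring, ht i]
    ring
  refine ⟨t, ?_⟩
  have hgen : (∑ i, t i • m i) * m' o = algebraMap B A d := by
    rw [Finset.sum_mul]
    calc ∑ i, t i • m i * m' o = ∑ i, algebraMap B A (t i * b i o) :=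
          Finset.sum_congr rfl fun i _ => by rw [Algebra.smul_def, mul_assoc, ← hb, map_mul]
      _ = algebraMap B A d := by
          rw [← map_sum]
          congr 1
          calc ∑ i, t i * b i o = ∑ i, d * (s i * t i) := Finset.sum_congr rfl fun i _ => by rw [hs i]; ring
            _ = d := by rw [← Finset.mul_sum, hst, mul_one]
  have hmi : ∀ i, m i = s i • (∑ j, t j • m j) := fun i => by
    refine mul_right_cancel₀ hm'o ?_
    rw [Algebra.smul_def, mul_assoc, hgen, ← map_mul, ← hb, mul_comm, ← hs]
  refine IsUnit.of_mul_eq_one (∑ i, algebraMap B A (s i) * m' i) ?_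
  rw [Finset.mul_sum, ← hsum]
  refine Finset.sum_congr rfl fun i _ => ?_
  conv_rhs => rw [hmi i, Algebra.smul_def]
  ring

/-- **no characters** -/
theorem qp_eq_one_of_isCharOn (hf : Function.Injective f)
    (hgl : ∀ a : A, IsGroupLikeElem k a → a ∈ Set.range f) {g : A} (hg : IsCharOn f g) : qp f g = 1 := by
  classical
  letI : Algebra (Laur k r) A := (f : Laur k r →+* A).toAlgebra
  haveI : IsScalarTower k (Laur k r) A := IsScalarTower.of_algebraMap_eq fun c => (AlgHomClass.commutes f c).symm
  haveI : Module.FaithfullyFlat (Laur k r) A := HopfImage.faithfullyFlat_of_injective f hf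
  let L : A →ₐ[k] (A ⊗[Laur k r] A) := Algebra.TensorProduct.includeLeft
  let R2 : A →ₐ[k] (A ⊗[Laur k r] A) :=
    (Algebra.TensorProduct.includeRight : A →ₐ[Laur k r] (A ⊗[Laur k r] A)).restrictScalars k
  have hLR : pre f (toConv L : Pt k A _) = pre f (toConv R2) := by
    refine WithConv.ext (AlgHom.ext fun b => ?_)
    show algebraMap (Laur k r) A b ⊗ₜ[Laur k r] (1 : A) = (1 : A) ⊗ₜ[Laur k r] algebraMap (Laur k r) A b
    rw [Algebra.algebraMap_eq_smul_one, TensorProduct.smul_tmul]
  let T : Pt k A (A ⊗[Laur k r] A) := pinv (toConv L) * toConv R2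
  have hT : pre f T = 1 := pre_pinv_mul hLR
  let Mk : (A ⊗[Laur k r] A) → Submodule (Laur k r) A := fun w => LinearMap.ker
    ((Algebra.TensorProduct.includeRight : A →ₐ[Laur k r] (A ⊗[Laur k r] A)).toLinearMap -
      (LinearMap.mulRight (Laur k r) w).comp (Algebra.TensorProduct.includeLeft : A →ₐ[Laur k r] (A ⊗[Laur k r] A)).toLinearMap)
  have hMk : ∀ w m, m ∈ Mk w ↔ R2 m = L m * w := fun w m => by
    simp [Mk, R2, L, sub_eq_zero]
    <;> rfl
  -- a cocycle is in the span
  have hspan : ∀ g : A, IsCharOn f g → Ideal.span (Mk (T.ofConv g) : Set A) = ⊤ := by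
    intro g hg
    let w := T.ofConv g
    let Ψ : A →ₗ[Laur k r] (A ⊗[Laur k r] A) := (Algebra.TensorProduct.includeRight : A →ₐ[Laur k r] (A ⊗[Laur k r] A)).toLinearMap -
      (LinearMap.mulRight (Laur k r) w).comp (Algebra.TensorProduct.includeLeft : A →ₐ[Laur k r] (A ⊗[Laur k r] A)).toLinearMap
    let MU : (A ⊗[Laur k r] A) →ₐ[k] (A ⊗[Laur k r] (A ⊗[Laur k r] A)) := (Algebra.TensorProduct.map (AlgHom.id (Laur k r) A)
      (Algebra.TensorProduct.includeLeft : A →ₐ[Laur k r] (A ⊗[Laur k r] A))).restrictScalars k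
    let MV : (A ⊗[Laur k r] A) →ₐ[k] (A ⊗[Laur k r] (A ⊗[Laur k r] A)) := (Algebra.TensorProduct.map (AlgHom.id (Laur k r) A)
      (Algebra.TensorProduct.includeRight : A →ₐ[Laur k r] (A ⊗[Laur k r] A))).restrictScalars k
    let incR : (A ⊗[Laur k r] A) →ₐ[k] (A ⊗[Laur k r] (A ⊗[Laur k r] A)) :=
      (Algebra.TensorProduct.includeRight : (A ⊗[Laur k r] A) →ₐ[Laur k r] (A ⊗[Laur k r] (A ⊗[Laur k r] A))).restrictScalars k
    have hw : (Ψ.lTensor A) w = 0 := by
      have h1 : ∀ z, (Ψ.lTensor A) z = MV z - MU z * incR w := by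
        intro z
        induction z with
        | zero => simp
        | tmul a c => simp [Ψ, MV, MU, incR, TensorProduct.tmul_sub]
        | add p q hp hq => simp only [map_add, hp, hq, add_mul]; abel
      rw [h1, sub_eq_zero]
      have h2 : post (A := A) MV T = post MU T * post incR T := by
        simp only [T, map_mul, post_pinv]
        have e1 : post (A := A) MV (toConv L) = post MU (toConv L) :=
          WithConv.ext (AlgHom.ext fun a => by simp [L, MV, MU])
        have e2 : post (A := A) MU (toConv R2) = post incR (toConv L) :=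
          WithConv.ext (AlgHom.ext fun a => by simp [R2, L, MU, incR])
        have e3 : post (A := A) MV (toConv R2) = post incR (toConv R2) :=
          WithConv.ext (AlgHom.ext fun a => by simp [R2, MV, incR])
        rw [e1, e2, e3]
        exact (pinv_mul_comp _ _ _).symm
      calc MV w = (post MV T).ofConv g := rfl
        _ = (post MU T * post incR T).ofConv g := by rw [h2]
        _ = MU w * incR w := hg.2 _ _ _ (by rw [pre_post, hT, map_one]) (by rw [pre_post, hT, map_one])
    obtain ⟨z, hz⟩ := ((Module.Flat.lTensor_exact A (LinearMap.exact_subtype_ker_map Ψ)) w).1 hw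
    let μA : (A ⊗[Laur k r] A) →ₐ[k] A := (Algebra.TensorProduct.lift (AlgHom.id (Laur k r) A) (AlgHom.id (Laur k r) A)
      fun _ _ => Commute.all _ _).restrictScalars k
    have hμw : μA w = 1 := by
      show (post μA T).ofConv g = 1
      have e1 : post (A := A) μA (toConv L) = toConv (AlgHom.id k A) :=
        WithConv.ext (AlgHom.ext fun a => by simp [μA, L])
      have e2 : post (A := A) μA (toConv R2) = toConv (AlgHom.id k A) :=
        WithConv.ext (AlgHom.ext fun a => by simp [μA, R2])
      rw [map_mul, post_pinv, e1, e2, pinv_mul, one_apply, hg.1, map_one]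
    rw [Ideal.eq_top_iff_one, ← hμw, ← hz]
    clear hz
    induction z with
    | zero => simp
    | add p q hp hq => rw [map_add, map_add]; exact add_mem hp hq
    | tmul a c =>
      have : μA ((LinearMap.lTensor A (LinearMap.ker Ψ).subtype) (a ⊗ₜ c)) = a * (c : A) := by simp [μA]
      rw [this]
      exact Ideal.mul_mem_left _ a (Ideal.subset_span c.2)
  -- the inverse character
  let g' : A := HopfAlgebraStruct.antipode k g
  have hpi : ∀ (R : Type u) [CommRing R] [Algebra k R] (x : Pt k A R), (pinv x).ofConv g = x.ofConv g' :=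
    fun R _ _ x => rfl
  have hinv : ∀ (R : Type u) [CommRing R] [Algebra k R] (x : Pt k A R), pre f x = 1 →
      x.ofConv g * x.ofConv g' = 1 := fun R _ _ x hx => by
    rw [← hpi, ← hg.2 R x (pinv x) hx (pre_pinv hx), mul_pinv, one_apply, hg.1, map_one]
  have hg' : IsCharOn f g' := by
    refine ⟨by simpa [g'] using hg.1, fun R _ _ x y hx hy => ?_⟩
    have hxy : pre f (x * y) = 1 := by rw [map_mul, hx, hy, mul_one]
    have h1 := hinv R _ hxy
    rw [hg.2 R x y hx hy] at h1
    linear_combination (x.ofConv g' * y.ofConv g') * h1 -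
      (x * y).ofConv g' * y.ofConv g' * y.ofConv g * hinv R x hx - (x * y).ofConv g' * hinv R y hy
  have hww' : T.ofConv g * T.ofConv g' = 1 := hinv _ T hT
  let M := Mk (T.ofConv g)
  let M' := Mk (T.ofConv g')
  have hprod : ∀ m ∈ M, ∀ m' ∈ M', ∃ b : Laur k r, algebraMap (Laur k r) A b = m * m' := by
    intro m hm m' hm'
    refine (Algebra.IsEffective.of_faithfullyFlat (Laur k r) A (m * m')).1 ?_
    rw [Algebra.TensorProduct.includeLeftSubRight_apply, sub_eq_zero]
    have h1 := (hMk _ _).1 hm
    have h2 := (hMk _ _).1 hm'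
    show L (m * m') = R2 (m * m')
    rw [map_mul, map_mul R2, h1, h2, show L m * T.ofConv g * (L m' * T.ofConv g') =
      L m * L m' * (T.ofConv g * T.ofConv g') by ring, hww', _root_.mul_one]
  have hone : (1 : A) ∈ M * M' := by
    let P : Ideal (Laur k r) := (M * M').comap (Algebra.linearMap (Laur k r) A)
    have hP : P.map (algebraMap (Laur k r) A) = ⊤ := by
      open Pointwise in
      have htop : Ideal.span ((M : Set A) * (M' : Set A)) = ⊤ := by
        rw [← Ideal.span_mul_span', hspan g hg, hspan g' hg', Ideal.top_mul]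
      rw [eq_top_iff, ← htop, Ideal.span_le]
      rintro _ ⟨m, hm, m', hm', rfl⟩
      obtain ⟨b, hb⟩ := hprod m hm m' hm'
      show m * m' ∈ Ideal.map _ P
      rw [← hb]
      refine Ideal.mem_map_of_mem _ ?_
      show algebraMap (Laur k r) A b ∈ M * M'
      rw [hb]
      exact Submodule.mul_mem_mul hm hm'
    have hP2 : P = ⊤ := by
      rw [← Ideal.comap_map_eq_self_of_faithfullyFlat (B := A) P, hP, Ideal.comap_top]
    have h1 : (1 : Laur k r) ∈ P := hP2 ▸ Submodule.mem_top
    have h2 : algebraMap (Laur k r) A 1 ∈ M * M' := h1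
    rwa [map_one] at h2
  obtain ⟨n, m, m', hm, hm', hsum⟩ := exists_sum_of_mem_mul hone
  have hinj : Function.Injective (algebraMap (Laur k r) A) := hf
  obtain ⟨t, ht⟩ := exists_generator hinj m m' hsum fun i j => hprod _ (hm i) _ (hm' j)
  let u0 := ∑ i, t i • m i
  have hu0M : u0 ∈ M := Submodule.sum_mem _ fun i _ => M.smul_mem _ (hm i)
  let c := Coalgebra.counit (R := k) u0
  have hc : c ≠ 0 := (ht.map (Bialgebra.counitAlgHom k A)).ne_zero
  have hgr : IsGroupLikeElem k (c⁻¹ • u0) := by
    refine Rosenlicht.isGroupLikeElem_of_isUnit (fun z hz => isIdempotentElem_eq_zero_or hz) ?_ ?_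
    · rw [Algebra.smul_def]
      exact ((IsUnit.mk0 _ (inv_ne_zero hc)).map (algebraMap k A)).mul ht
    · rw [map_smul, smul_eq_mul, inv_mul_cancel₀ hc]
  obtain ⟨b, hb⟩ := hgl _ hgr
  have hu0 : L u0 = R2 u0 := by
    have h1 : u0 = c • f b := by rw [hb, smul_smul, mul_inv_cancel₀ hc, one_smul]
    rw [h1, map_smul, map_smul]
    exact congrArg (c • ·) (DFunLike.congr_fun (congrArg WithConv.ofConv hLR) b)
  have hw1 : T.ofConv g = 1 := by
    have h1 := (hMk _ _).1 hu0M
    rw [← hu0] at h1
    exact ((ht.map L).mul_eq_left.1 h1.symm)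
  -- evaluate at the pair (1, point of the kernel)
  let ε' : A →ₐ[k] Q f := (Algebra.ofId k (Q f)).comp (Bialgebra.counitAlgHom k A)
  have hl : ∀ b : Laur k r, ε' (f b) = qp f (f b) := fun b => by
    have h := congrArg (fun p : Pt k (Laur k r) (Q f) => p.ofConv b) (pre_qp f)
    refine Eq.trans ?_ h.symm
    show algebraMap k (Q f) (Coalgebra.counit (R := k) (f b)) = (1 : Pt k (Laur k r) (Q f)).ofConv b
    rw [one_apply, CoalgHomClass.counit_comp_apply]
  let l : A →ₐ[Laur k r] Q f :=
    { ε'.toRingHom with commutes' := fun b => hl b }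
  let rr : A →ₐ[Laur k r] Q f :=
    { (qp f).toRingHom with commutes' := fun b => rfl }
  let Ev : (A ⊗[Laur k r] A) →ₐ[k] Q f :=
    (Algebra.TensorProduct.lift l rr fun _ _ => Commute.all _ _).restrictScalars k
  have hEvT : post Ev T = toConv (qp f) := by
    have eL : post Ev (toConv L : Pt k A _) = 1 :=
      WithConv.ext (AlgHom.ext fun a => by
        rw [post_apply, one_apply]
        simp [Ev, L, l, ε'])
    have eR : post Ev (toConv R2 : Pt k A _) = toConv (qp f) :=
      WithConv.ext (AlgHom.ext fun a => by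
        rw [post_apply]
        simp [Ev, R2, rr])
    rw [map_mul, post_pinv, eL, eR]
    have h1 : pinv (1 : Pt k A (Q f)) = 1 := by
      conv_rhs => rw [← pinv_mul (1 : Pt k A (Q f))]
      exact (_root_.mul_one _).symm
    rw [h1]
    exact _root_.one_mul _
  have h3 := congrArg Ev hw1
  rw [map_one, ← post_apply Ev T g, hEvT] at h3
  exact h3

end Groth.L08.TorusQuot
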