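import Groth.Agent.L08.TorusQuot.Kernel
import Groth.Agent.L08.TorusQuot.NoChar
import Groth.Agent.L08.TorusQuot.Chars
import Groth.Agent.L25.Bridge.Spec
import Groth.Agent.L08.CentralGm
import Groth.Prelude.Def_AlgGrp
import Mathlib.RingTheory.Spectrum.Prime.Topology

/-!
# The kernel of the largest torus quotient of an affine group variety, as a scheme
-/

set_option autoImplicit false
set_option linter.style.haveILetI false
set_option linter.unusedSectionVars false
set_option backward.isDefEq.respectTransparency.types false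

universe u

open CategoryTheory MonoidalCategory CartesianMonoidalCategory MonObj AlgebraicGeometry CategoryTheory.Limits
open WithConv
open Groth.L25.Bridge (P)
open Groth.L08.CentralGm (LZ T)

noncomputable section

namespace Groth.L08.TorusQuot

variable {k : Type u} [Field k]

/-- the affine scheme of an algebra -/
abbrev SP (k : Type u) [Field k] (R : Type u) [CommRing R] [Algebra k R] : Over (Spec (CommRingCat.of k)) :=
  (Spec (CommRingCat.of R)).asOver (Spec (CommRingCat.of k))

variable {A B : Type u} [CommRing A] [HopfAlgebra k A] [CommRing B] [HopfAlgebra k B]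
  {R R' : Type u} [CommRing R] [Algebra k R] [CommRing R'] [Algebra k R']

/-- points as morphisms -/
abbrev toPt (x : Pt k A R) : SP k R ⟶ P k A := Spec.mapMulEquiv x

/-- morphisms as points -/
abbrev ofPt (u : SP k R ⟶ P k A) : Pt k A R :=
  (Spec.mapMulEquiv (R := k) (S := A) (T := R)).symm u

theorem toPt_ofPt (u : SP k R ⟶ P k A) : toPt (ofPt u) = u := MulEquiv.apply_symm_apply _ _

theorem ofPt_toPt (x : Pt k A R) : ofPt (toPt x) = x := MulEquiv.symm_apply_apply _ _

/-- the morphism of an algebra map -/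
def spA (φ : R →ₐ[k] R') : SP k R' ⟶ SP k R :=
  (Spec.map (CommRingCat.ofHom φ.toRingHom)).asOver _

theorem toPt_post (φ : R →ₐ[k] R') (x : Pt k A R) : toPt (post φ x) = spA φ ≫ toPt x := by
  refine Over.OverMorphism.ext ?_
  exact Spec.map_comp (CommRingCat.ofHom x.ofConv.toRingHom) (CommRingCat.ofHom φ.toRingHom)

theorem ofPt_comp (φ : R →ₐ[k] R') (u : SP k R ⟶ P k A) : ofPt (spA φ ≫ u) = post φ (ofPt u) := by
  apply (Spec.mapMulEquiv (R := k) (S := A) (T := R')).injective
  show toPt (ofPt (spA φ ≫ u)) = toPt (post φ (ofPt u))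
  rw [toPt_ofPt, toPt_post, toPt_ofPt]

/-- the homomorphism of a bialgebra map -/
def sp (f : B →ₐc[k] A) : P k A ⟶ P k B :=
  ((hopfSpec (CommRingCat.of k)).map (CommHopfAlgCat.ofHom f).op).hom.hom

instance isMonHom_sp (f : B →ₐc[k] A) : IsMonHom (sp f) :=
  ((hopfSpec (CommRingCat.of k)).map (CommHopfAlgCat.ofHom f).op).hom.isMonHom_hom

theorem sp_left (f : B →ₐc[k] A) : (sp f).left = Spec.map (CommRingCat.ofHom (f : B →+* A)) := rfl

theorem toPt_pre (f : B →ₐc[k] A) (x : Pt k A R) : toPt (pre f x) = toPt x ≫ sp f := by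
  refine Over.OverMorphism.ext ?_
  rw [Over.comp_left, sp_left]
  exact Spec.map_comp (CommRingCat.ofHom (f : B →+* A)) (CommRingCat.ofHom x.ofConv.toRingHom)

theorem toPt_one : toPt (1 : Pt k A R) = 1 := map_one _

/-- every homomorphism of affine groups comes from a bialgebra map -/
theorem exists_sp (g : P k A ⟶ P k B) [IsMonHom g] : ∃ c : B →ₐc[k] A, sp c = g := by
  let H₁ := Opposite.op (CommHopfAlgCat.of k A)
  let H₂ := Opposite.op (CommHopfAlgCat.of k B)
  let F : (hopfSpec (CommRingCat.of k)).obj H₁ ⟶ (hopfSpec (CommRingCat.of k)).obj H₂ :=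
    Grp.homMk (A := Grp.mk (P k A)) (B := Grp.mk (P k B)) g
  let φ := (hopfSpec.fullyFaithful (R := CommRingCat.of k)).preimage F
  refine ⟨φ.unop.hom, ?_⟩
  exact congrArg (fun m => m.hom.hom) ((hopfSpec.fullyFaithful (R := CommRingCat.of k)).map_preimage F)

theorem sp_comp {C : Type u} [CommRing C] [HopfAlgebra k C] (c : C →ₐc[k] B) (f : B →ₐc[k] A) :
    sp f ≫ sp c = sp (f.comp c) := by
  refine Over.OverMorphism.ext ?_
  exact (Spec.map_comp (CommRingCat.ofHom (c : C →+* B)) (CommRingCat.ofHom (f : B →+* A))).symm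

theorem bialgHom_ext_T (c c' : LZ k →ₐc[k] A) (h : c (T k) = c' (T k)) : c = c' := by
  have h2 : (c : LZ k →ₐ[k] A) = (c' : LZ k →ₐ[k] A) :=
    MonoidAlgebra.algHom_ext' (MonoidHom.ext_mint h) (Subsingleton.elim _ _)
  exact BialgHom.ext fun x => DFunLike.congr_fun h2 x

/-- a bialgebra map out of the Laurent algebra landing in the torus factors through it -/
theorem exists_sp_factor {r : ℕ} (f : Laur k r →ₐc[k] A) (hf : Function.Injective f)
    (hgl : ∀ a : A, IsGroupLikeElem k a → a ∈ Set.range f) (cb : LZ k →ₐc[k] A) :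
    ∃ cv : LZ k →ₐc[k] Laur k r, sp f ≫ sp cv = sp cb := by
  have h := (MonoidAlgebra.isGroupLikeElem_single_one (R := k) (A := k)
    (Multiplicative.ofAdd (1 : ℤ))).map cb
  obtain ⟨b, hb⟩ := hgl _ h
  rw [← hb] at h
  have hbgl : IsGroupLikeElem k b := by
    refine ⟨?_, ?_⟩
    · rw [← CoalgHomClass.counit_comp_apply f b]; exact h.counit_eq_one
    · refine TensorProduct.map_injective_of_flat_flat (f : Laur k r →ₗ[k] A) (f : Laur k r →ₗ[k] A) hf hf ?_
      refine (CoalgHomClass.map_comp_comul_apply f b).trans (h.comul_eq_tmul_self.trans ?_)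
      rfl
  obtain ⟨v, rfl⟩ := MonoidAlgebra.isGroupLikeElem_iff_mem_range_single_one.1 hbgl
  refine ⟨MonoidAlgebra.mapDomainBialgHom k (zpowersHom _ v), ?_⟩
  rw [sp_comp]
  congr 1
  refine bialgHom_ext_T _ _ ?_
  show f (MonoidAlgebra.mapDomainBialgHom k (zpowersHom _ v) (T k)) = cb (T k)
  refine Eq.trans ?_ hb
  simp

theorem ext_T {R : Type u} [CommRing R] [Algebra k R] {x y : Pt k (LZ k) R}
    (h : x.ofConv (T k) = y.ofConv (T k)) : x = y :=
  WithConv.ofConv_injective (MonoidAlgebra.algHom_ext' (MonoidHom.ext_mint h) (Subsingleton.elim _ _))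

theorem connectedSpace_spec {C : Type u} [CommRing C] [Nontrivial C]
    (h : ∀ z : C, IsIdempotentElem z → z = 0 ∨ z = 1) : ConnectedSpace (PrimeSpectrum C) := by
  rw [connectedSpace_iff_clopen]
  refine ⟨inferInstance, fun s hs => ?_⟩
  obtain ⟨e, he, rfl⟩ := PrimeSpectrum.isClopen_iff.1 hs
  rcases h e he with rfl | rfl
  · left; simp
  · right; simp

variable [IsAlgClosed k] [IsDomain A] [Algebra.FiniteType k A] {r : ℕ}

/-- **the kernel is connected and has no characters** -/
theorem kernel_props (f : Laur k r →ₐc[k] A) (hf : Function.Injective f)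
    (hgl : ∀ a : A, IsGroupLikeElem k a → a ∈ Set.range f)
    (K : Over (Spec (CommRingCat.of k))) [GrpObj K] (j : K ⟶ P k A) [IsMonHom j] [IsClosedImmersion j.left]
    (hK : AlgGrp.IsKernel j (sp f)) :
    ConnectedSpace K.left ∧ ∀ ψ : K ⟶ P k (LZ k), IsMonHom ψ → ψ = 1 := by
  haveI : IsAffine (P k A).left := inferInstanceAs (IsAffine (Spec (CommRingCat.of A)))
  haveI : IsAffine K.left := isAffine_of_isAffineHom j.left
  obtain ⟨H, ⟨e⟩⟩ := (essImage_hopfSpec (G := Grp.mk K)).mpr ‹IsAffine K.left›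
  let C := H.unop
  let eK : P k C ≅ K := (Grp.forget _).mapIso e
  haveI : IsMonHom eK.hom := e.hom.hom.isMonHom_hom
  haveI : IsIso eK.hom.left := inferInstanceAs (IsIso ((Over.forget _).map eK.hom))
  haveI : Mono j := Over.mono_of_mono_left j
  let xC : Pt k A C := ofPt (eK.hom ≫ j)
  have hjK : j ≫ sp f = 1 := hK.w.trans (Hom.one_def).symm
  have hxC : pre f xC = 1 := by
    apply (Spec.mapMulEquiv (R := k) (S := Laur k r) (T := C)).injective
    show toPt (pre f xC) = Spec.mapMulEquiv (1 : Pt k (Laur k r) C)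
    rw [toPt_pre, map_one, toPt_ofPt, Category.assoc, hjK, MonObj.comp_one]
  obtain ⟨uQ, huQ, -⟩ := hK.exists_lift (toPt (toConv (qp f))) (toUnit _) (by
    rw [← toPt_pre, pre_qp, toPt_one, Hom.one_def])
  obtain ⟨φC, hφC⟩ := exists_factor f hxC
  let ψC : C →ₐ[k] Q f := (ofPt (uQ ≫ eK.inv)).ofConv
  have hid : ∀ c : C, φC (ψC c) = c := by
    intro c
    have h1 : spA φC ≫ uQ ≫ eK.inv = toPt (toConv (AlgHom.id k C)) := by
      rw [← cancel_mono (eK.hom ≫ j)]
      simp only [Category.assoc, Iso.inv_hom_id_assoc]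
      rw [huQ, ← toPt_post, hφC, toPt_ofPt]
      have : toPt (toConv (AlgHom.id k C)) = 𝟙 (P k C) := Over.OverMorphism.ext (Spec.map_id _)
      rw [this, Category.id_comp]
    have h2 := congrArg (fun u : SP k C ⟶ P k C => (ofPt u).ofConv c) h1
    simp only [ofPt_toPt, ofPt_comp] at h2
    exact h2
  refine ⟨?_, fun ψ hψ => ?_⟩
  · have hC : ∀ z : C, IsIdempotentElem z → z = 0 ∨ z = 1 := by
      intro z hz
      rcases idempotent_eq f hf hgl (hz.map ψC) with h | h
      · left; rw [← hid z, h, map_zero]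
      · right; rw [← hid z, h, map_one]
    haveI : Nontrivial C := (Bialgebra.counitAlgHom k C).toRingHom.domain_nontrivial
    haveI : ConnectedSpace (P k C).left := connectedSpace_spec hC
    exact eK.hom.left.surjective.connectedSpace eK.hom.left.continuous
  · haveI := hψ
    -- the character as a function
    let val : ∀ {R : Type u} [CommRing R] [Algebra k R], (SP k R ⟶ K) → R := fun u => (ofPt (u ≫ ψ)).ofConv (T k)
    have hTgl : IsGroupLikeElem k (T k) := MonoidAlgebra.isGroupLikeElem_single_one _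
    obtain ⟨g, hgQ⟩ := Ideal.Quotient.mkₐ_surjective k (J f) (val uQ)
    have hlift : ∀ (R : Type u) [CommRing R] [Algebra k R] (x : Pt k A R), pre f x = 1 →
        ∃ u : SP k R ⟶ K, u ≫ j = toPt x ∧ val u = x.ofConv g := by
      intro R _ _ x hx
      obtain ⟨φ, rfl⟩ := exists_factor f hx
      refine ⟨spA φ ≫ uQ, by rw [Category.assoc, huQ, toPt_post], ?_⟩
      show (ofPt ((spA φ ≫ uQ) ≫ ψ)).ofConv (T k) = φ (qp f g)
      rw [Category.assoc, ofPt_comp, post_apply]
      exact congrArg φ hgQ.symm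
    have hchar : IsCharOn f g := by
      refine ⟨?_, fun R _ _ x y hx hy => ?_⟩
      · obtain ⟨u, hu, hval⟩ := hlift k 1 (map_one _)
        have hu1 : u = 1 := by
          rw [← cancel_mono j, hu, toPt_one, MonObj.one_comp]
        rw [one_apply] at hval
        refine (hval.symm.trans ?_ : algebraMap k k (Coalgebra.counit g) = 1)
        show (ofPt (u ≫ ψ)).ofConv (T k) = 1
        rw [hu1, MonObj.one_comp, ← toPt_one, ofPt_toPt, one_apply, hTgl.counit_eq_one, map_one]
      · obtain ⟨ux, hux, hvx⟩ := hlift R x hx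
        obtain ⟨uy, huy, hvy⟩ := hlift R y hy
        obtain ⟨uz, huz, hvz⟩ := hlift R (x * y) (by rw [map_mul, hx, hy, _root_.mul_one])
        have hmul : uz = ux * uy := by
          rw [← cancel_mono j, huz, MonObj.mul_comp, hux, huy]
          exact map_mul _ _ _
        rw [← hvz, ← hvx, ← hvy]
        show (ofPt (uz ≫ ψ)).ofConv (T k) = (ofPt (ux ≫ ψ)).ofConv (T k) * (ofPt (uy ≫ ψ)).ofConv (T k)
        rw [hmul, MonObj.mul_comp, ← mul_apply_groupLike hTgl]
        exact congrArg (fun p : Pt k (LZ k) R => p.ofConv (T k)) (map_mul _ _ _)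
    have hg1 := qp_eq_one_of_isCharOn hf hgl hchar
    obtain ⟨u, hu, hval⟩ := hlift C xC hxC
    have hue : u = eK.hom := by rw [← cancel_mono j, hu, toPt_ofPt]
    have hxg : xC.ofConv g = 1 := by
      rw [← hφC, post_apply]
      exact (congrArg φC hg1).trans (map_one φC)
    have h1 : ofPt (eK.hom ≫ ψ) = 1 := by
      refine ext_T ?_
      rw [← hue]
      exact (hval.trans hxg).trans (by rw [one_apply, hTgl.counit_eq_one, map_one])
    rw [← cancel_epi eK.hom, MonObj.comp_one, ← toPt_ofPt (eK.hom ≫ ψ), h1, toPt_one]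

end Groth.L08.TorusQuot
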