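import Mathlib.Algebra.MonoidAlgebra.Basic
import Mathlib.Algebra.MonoidAlgebra.NoZeroDivisors
import Mathlib.GroupTheory.MonoidLocalization.UniqueFactorization
import Mathlib.RingTheory.Polynomial.UniqueFactorization
import Mathlib.RingTheory.Localization.Away.Basic

/-!
# Laurent polynomial rings in finitely many variables are factorial
-/

set_option autoImplicit false

universe u

open MvPolynomial

noncomputable section

namespace Groth.L08.TorusQuot

variable (k : Type u) [Field k] (r : ℕ)

/-- the Laurent polynomial ring -/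
abbrev Laur : Type u := MonoidAlgebra k (Multiplicative (Fin r → ℤ))

/-- the monomial with the given exponents -/
abbrev mon (e : Fin r → ℤ) : Laur k r := MonoidAlgebra.single (Multiplicative.ofAdd e) 1

theorem mon_mul (e e' : Fin r → ℤ) : mon k r e * mon k r e' = mon k r (e + e') := by
  simp [mon, MonoidAlgebra.single_mul_single, ofAdd_add]

theorem mon_zero : mon k r 0 = 1 := rfl

theorem mon_prod (s : Finset (Fin r)) (f : Fin r → (Fin r → ℤ)) :
    ∏ i ∈ s, mon k r (f i) = mon k r (∑ i ∈ s, f i) := by
  classical
  induction s using Finset.induction with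
  | empty => rw [Finset.prod_empty, Finset.sum_empty, mon_zero]
  | insert a s ha ih => rw [Finset.prod_insert ha, Finset.sum_insert ha, ih, mon_mul]

theorem mon_pow (e : Fin r → ℤ) (n : ℕ) : mon k r e ^ n = mon k r (n • e) := by
  induction n with
  | zero => rw [pow_zero, zero_smul, mon_zero]
  | succ n ih => rw [pow_succ, ih, mon_mul, succ_nsmul]

/-- polynomials as Laurent polynomials -/
def toLaur : MvPolynomial (Fin r) k →ₐ[k] Laur k r :=
  aeval fun i => mon k r (Pi.single i 1)

theorem toLaur_monomial (d : Fin r →₀ ℕ) (c : k) :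
    toLaur k r (monomial d c) = MonoidAlgebra.single (Multiplicative.ofAdd fun i => (d i : ℤ)) c := by
  classical
  have h : (d.prod fun i n => (mon k r (Pi.single i 1)) ^ n) = mon k r (fun i => (d i : ℤ)) := by
    rw [Finsupp.prod_fintype _ _ (fun i => pow_zero _)]
    simp only [mon_pow]
    rw [mon_prod]
    congr 1
    funext j
    simp [Finset.sum_apply, Pi.single_apply]
  rw [toLaur, aeval_monomial, h, ← Algebra.smul_def, MonoidAlgebra.smul_single, smul_eq_mul, mul_one]

theorem toLaur_injective : Function.Injective (toLaur k r) := by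
  classical
  intro p q hpq
  refine MvPolynomial.ext _ _ fun d => ?_
  have key : ∀ p : MvPolynomial (Fin r) k,
      (toLaur k r p).coeff (Multiplicative.ofAdd fun i => (d i : ℤ)) = p.coeff d := by
    intro p
    induction p using MvPolynomial.induction_on' with
    | monomial e c =>
      rw [toLaur_monomial, MonoidAlgebra.coeff_single, MvPolynomial.coeff_monomial, Finsupp.single_apply]
      refine if_congr ⟨fun h => Finsupp.ext fun i => ?_, fun h => h ▸ rfl⟩ rfl rfl
      exact_mod_cast congrFun (Multiplicative.ofAdd.injective h) i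
    | add p q hp hq => rw [map_add, MonoidAlgebra.coeff_add, Finsupp.add_apply, hp, hq, MvPolynomial.coeff_add]
  rw [← key, ← key, hpq]

/-- the product of the variables -/
abbrev allX : MvPolynomial (Fin r) k := ∏ i, X i

theorem toLaur_allX_pow (n : ℕ) :
    toLaur k r (allX k r ^ n) = mon k r (fun _ => (n : ℤ)) := by
  classical
  rw [map_pow, map_prod]
  simp only [toLaur, aeval_X]
  rw [mon_prod, mon_pow]
  congr 1
  funext j
  simp [Finset.sum_apply, Pi.single_apply]

theorem exists_mul_eq (z : Laur k r) :
    ∃ (n : ℕ) (p : MvPolynomial (Fin r) k), z * toLaur k r (allX k r ^ n) = toLaur k r p := by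
  classical
  induction z using MonoidAlgebra.induction_linear with
  | zero => exact ⟨0, 0, by simp⟩
  | add x y hx hy =>
    obtain ⟨n, p, hp⟩ := hx
    obtain ⟨m, q, hq⟩ := hy
    refine ⟨n + m, p * allX k r ^ m + q * allX k r ^ n, ?_⟩
    rw [map_add, map_mul, map_mul, ← hp, ← hq, pow_add, map_mul]
    ring
  | single g c =>
    obtain ⟨n, hn⟩ : ∃ n : ℕ, ∀ i, 0 ≤ Multiplicative.toAdd g i + n := by
      refine ⟨∑ i, (Multiplicative.toAdd g i).natAbs, fun i => ?_⟩
      have h1 := Finset.single_le_sum (f := fun i => (Multiplicative.toAdd g i).natAbs)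
        (fun j _ => Nat.zero_le _) (Finset.mem_univ i)
      omega
    refine ⟨n, monomial (Finsupp.equivFunOnFinite.symm fun i => (Multiplicative.toAdd g i + n).toNat) c, ?_⟩
    rw [toLaur_allX_pow, toLaur_monomial, MonoidAlgebra.single_mul_single, mul_one]
    congr 1
    refine Multiplicative.toAdd.injective (funext fun i => ?_)
    simp only [toAdd_mul, toAdd_ofAdd, Pi.add_apply, Finsupp.coe_equivFunOnFinite_symm]
    rw [Int.toNat_of_nonneg (hn i)]

instance uniqueFactorizationMonoid : UniqueFactorizationMonoid (Laur k r) := by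
  let := (toLaur k r).toRingHom.toAlgebra
  have : IsLocalization.Away (allX k r) (Laur k r) := by
    refine ⟨?_, fun z => ?_, fun {x y} h => ⟨1, by simpa using toLaur_injective k r h⟩⟩
    · rintro ⟨_, n, rfl⟩
      show IsUnit (toLaur k r (allX k r ^ n))
      rw [toLaur_allX_pow]
      refine IsUnit.of_mul_eq_one (mon k r (fun _ => -(n : ℤ))) ?_
      rw [mon_mul, show ((fun _ => (n : ℤ)) + fun _ => -(n : ℤ)) = (0 : Fin r → ℤ) by funext i; simp,
        mon_zero]
    · obtain ⟨n, p, hp⟩ := exists_mul_eq k r z
      exact ⟨⟨p, ⟨_, n, rfl⟩⟩, hp⟩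
  exact UniqueFactorizationMonoid.of_isLocalization (M := MvPolynomial (Fin r) k) (Submonoid.powers (allX k r)) _

end Groth.L08.TorusQuot
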