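import Groth.Agent.L08.TorusQuot.Points
import Groth.Agent.L08.Points
import Groth.Agent.L08.TorusQuot.LaurentUFD
import Groth.Agent.L08.HopfImage
import Groth.Agent.L25.UnipExt
import Mathlib.RingTheory.Bialgebra.MonoidAlgebra
import Mathlib.RingTheory.Flat.Basic
import Mathlib.LinearAlgebra.Dual.Lemmas

/-!
# The kernel of the largest torus quotient of an affine group variety is connected
-/

set_option autoImplicit false
set_option linter.style.haveILetI false
set_option linter.unusedSectionVars false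

universe u

open TensorProduct WithConv

noncomputable section

namespace Groth.L08.TorusQuot

variable {k : Type u} [Field k] [IsAlgClosed k] {A : Type u} [CommRing A] [IsDomain A] [HopfAlgebra k A]
  [Algebra.FiniteType k A] {r : ℕ} (f : Laur k r →ₐc[k] A)

/-- the ideal of the kernel -/
def J : Ideal A := Ideal.map (f : Laur k r →+* A) (RingHom.ker (Bialgebra.counitAlgHom k (Laur k r)))

/-- the coordinate ring of the kernel -/
abbrev Q : Type u := A ⧸ J f

/-- projection -/
abbrev qp : A →ₐ[k] Q f := Ideal.Quotient.mkₐ k (J f)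

variable {R : Type u} [CommRing R] [Algebra k R]

theorem finiteType_tensor {k A B : Type u} [Field k] [CommRing A] [CommRing B] [Algebra k A] [Algebra k B]
    [hA : Algebra.FiniteType k A] [Algebra.FiniteType k B] : Algebra.FiniteType k (A ⊗[k] B) :=
  Algebra.FiniteType.trans (S := A) hA inferInstance

attribute [instance] finiteType_tensor

theorem pre_eq_one_iff' (x : Pt k A R) : pre f x = 1 ↔ J f ≤ RingHom.ker x.ofConv := pre_eq_one_iff f x

theorem exists_factor {x : Pt k A R} (hx : pre f x = 1) : ∃ φ : Q f →ₐ[k] R, post φ (toConv (qp f)) = x :=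
  ⟨Ideal.Quotient.liftₐ (J f) x.ofConv fun _ ha => (pre_eq_one_iff' f x).1 hx ha, rfl⟩

theorem pre_qp : pre f (toConv (qp f)) = 1 := by
  rw [pre_eq_one_iff']
  intro a ha
  exact Ideal.Quotient.eq_zero_iff_mem.2 ha

/-- a lift of the idempotent cutting out the identity component of the kernel -/
structure IdLift (e : A) : Prop where
  idem : IsIdempotentElem (qp f e)
  counit : Coalgebra.counit (R := k) e = 1
  least : ∀ a : A, IsIdempotentElem (qp f a) → Coalgebra.counit (R := k) a = 1 → qp f a * qp f e = qp f e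

theorem exists_idLift : ∃ e : A, IdLift f e := by
  classical
  haveI : IsNoetherianRing A := Algebra.FiniteType.isNoetherianRing k A
  obtain ⟨εQ, hεQ⟩ := exists_factor f (R := k) (x := 1) (map_one _)
  have hε : ∀ a : A, εQ (qp f a) = Coalgebra.counit (R := k) a := fun a =>
    (DFunLike.congr_fun (congrArg WithConv.ofConv hεQ) a).trans (one_apply a)
  let S := ((finite_idempotents (Q f)).toFinset).filter fun z => εQ z = 1
  obtain ⟨e, he⟩ := Ideal.Quotient.mkₐ_surjective k (J f) (∏ z ∈ S, z)
  refine ⟨e, ?_, ?_, fun a ha h1 => ?_⟩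
  · show IsIdempotentElem (qp f e)
    rw [show qp f e = ∏ z ∈ S, z from he]
    refine Finset.prod_induction id IsIdempotentElem (fun a b ha hb => ha.mul hb) IsIdempotentElem.one ?_
    intro z hz
    exact (finite_idempotents (Q f)).mem_toFinset.1 (Finset.mem_filter.1 hz).1
  · rw [← hε, show qp f e = ∏ z ∈ S, z from he, map_prod]
    exact Finset.prod_eq_one fun z hz => (Finset.mem_filter.1 hz).2
  · rw [show qp f e = ∏ z ∈ S, z from he]
    have hmem : qp f a ∈ S := Finset.mem_filter.2 ⟨(Set.Finite.mem_toFinset _).2 ha, (hε a).trans h1⟩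
    rw [← Finset.mul_prod_erase S (fun z => z) hmem, ← mul_assoc, ha.eq]

variable {f} {e : A} (he : IdLift f e)

include he in
theorem isIdempotentElem_apply {x : Pt k A R} (hx : pre f x = 1) : IsIdempotentElem (x.ofConv e) := by
  obtain ⟨φ, rfl⟩ := exists_factor f hx
  exact he.idem.map φ

/-- points of the identity component of the kernel -/
def InN0 (_ : IdLift f e) (x : Pt k A R) : Prop := pre f x = 1 ∧ x.ofConv e = 1

theorem InN0.post {R' : Type u} [CommRing R'] [Algebra k R'] (φ : R →ₐ[k] R') {x : Pt k A R}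
    (hx : InN0 he x) : InN0 he (post φ x) :=
  ⟨by rw [pre_post, hx.1, map_one], by rw [post_apply, hx.2, map_one]⟩

theorem inN0_one : InN0 he (1 : Pt k A R) :=
  ⟨map_one _, by rw [one_apply, he.counit, map_one]⟩

theorem inN0_mul {a b : Pt k A k} (ha : InN0 he a) (hb : InN0 he b) : InN0 he (a * b) := by
  refine ⟨by rw [map_mul, ha.1, hb.1, one_mul], ?_⟩
  obtain ⟨φ, rfl⟩ := exists_factor f ha.1
  obtain ⟨c, hc⟩ := exists_factor f hb.1
  -- translate of the idempotent by `b`
  let t : Pt k A (Q f) := toConv (qp f) * TorusQuot.post (Algebra.ofId k (Q f)) b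
  have ht : pre f t = 1 := by rw [map_mul, pre_qp, one_mul, pre_post, hb.1, map_one]
  obtain ⟨a', ha'⟩ := Ideal.Quotient.mkₐ_surjective k (J f) (t.ofConv e)
  have hidem : IsIdempotentElem (qp f a') := ha' ▸ isIdempotentElem_apply he ht
  have h1 : ∀ φ : Q f →ₐ[k] k,
      φ (t.ofConv e) = (TorusQuot.post φ (toConv (qp f)) * b).ofConv e := fun φ => by
    have : TorusQuot.post φ t = TorusQuot.post φ (toConv (qp f)) * b := by
      rw [map_mul, post_post, Subsingleton.elim (φ.comp (Algebra.ofId k (Q f))) (AlgHom.id k k)]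
      rfl
    rw [← this, post_apply]
  obtain ⟨εQ, hεQ⟩ := exists_factor f (R := k) (x := 1) (map_one _)
  have hca : Coalgebra.counit (R := k) a' = 1 := by
    have h2 := DFunLike.congr_fun (congrArg WithConv.ofConv hεQ) a'
    rw [one_apply] at h2
    refine h2.symm.trans ?_
    show εQ (qp f a') = 1
    rw [ha', h1, hεQ, one_mul]
    exact hb.2
  have h3 := congrArg φ (he.least a' hidem hca)
  rw [map_mul, show φ (qp f e) = 1 from ha.2, mul_one, ha', h1] at h3
  exact h3

theorem inN0_inv {a : Pt k A k} (ha : InN0 he a) : InN0 he a⁻¹ := by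
  have hpre : pre f a⁻¹ = 1 :=
    calc pre f a⁻¹ = pre f a⁻¹ * pre f a := by rw [ha.1, mul_one]
      _ = 1 := by rw [← map_mul, inv_mul_cancel, map_one]
  refine ⟨hpre, ?_⟩
  rcases isIdempotentElem_eq_zero_or (isIdempotentElem_apply he hpre) with h0 | h1
  swap
  · exact h1
  exfalso
  let t : Pt k A (Q f) := toConv (qp f) * TorusQuot.post (Algebra.ofId k (Q f)) a⁻¹
  have ht : pre f t = 1 := by rw [map_mul, pre_qp, one_mul, pre_post, hpre, map_one]
  obtain ⟨a', ha'⟩ := Ideal.Quotient.mkₐ_surjective k (J f) (t.ofConv e)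
  have hidem : IsIdempotentElem (qp f (1 - a')) := by
    rw [map_sub, map_one, ha']
    exact (isIdempotentElem_apply he ht).one_sub
  have h1 : ∀ φ : Q f →ₐ[k] k,
      φ (t.ofConv e) = (TorusQuot.post φ (toConv (qp f)) * a⁻¹).ofConv e := fun φ => by
    have : TorusQuot.post φ t = TorusQuot.post φ (toConv (qp f)) * a⁻¹ := by
      rw [map_mul, post_post, Subsingleton.elim (φ.comp (Algebra.ofId k (Q f))) (AlgHom.id k k)]
      rfl
    rw [← this, post_apply]
  obtain ⟨εQ, hεQ⟩ := exists_factor f (R := k) (x := 1) (map_one _)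
  obtain ⟨φ, hφ⟩ := exists_factor f ha.1
  have hca : Coalgebra.counit (R := k) (1 - a') = 1 := by
    have h2 := DFunLike.congr_fun (congrArg WithConv.ofConv hεQ) (1 - a')
    rw [one_apply] at h2
    refine h2.symm.trans ?_
    show εQ (qp f (1 - a')) = 1
    rw [map_sub, map_one, ha', map_sub, map_one, h1, hεQ, one_mul, h0, sub_zero]
  have h3 := congrArg φ (he.least _ hidem hca)
  rw [map_mul, map_sub, map_one, map_sub, map_one, ha', h1, hφ,
    show φ (qp f e) = 1 from (DFunLike.congr_fun (congrArg WithConv.ofConv hφ) e).trans ha.2,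
    mul_inv_cancel, one_apply, he.counit, map_one, sub_self, zero_mul] at h3
  exact zero_ne_one h3

/-- the group of points of the identity component of the kernel -/
def N0 : Subgroup (Pt k A k) where
  carrier := {x | InN0 he x}
  one_mem' := inN0_one he
  mul_mem' := inN0_mul he
  inv_mem' := inN0_inv he

theorem post_pinv {R R' : Type u} [CommRing R] [Algebra k R] [CommRing R'] [Algebra k R'] (φ : R →ₐ[k] R')
    (x : Pt k A R) : TorusQuot.post φ (pinv x) = pinv (TorusQuot.post φ x) := rfl

theorem pinv_eq_inv (x : Pt k A k) : pinv x = x⁻¹ := rfl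

theorem pre_pinv_mul {R : Type u} [CommRing R] [Algebra k R] {x y : Pt k A R} (h : pre f x = pre f y) :
    pre f (pinv x * y) = 1 := by
  rw [map_mul, ← h, ← map_mul, pinv_mul, map_one]

/-- commutators of points lie in the identity component of the kernel -/
theorem commutator_mem (x y : Pt k A k) : InN0 he ((y * x)⁻¹ * (x * y)) := by
  have hcomm : ∀ (R : Type u) [CommRing R] [Algebra k R] (s t : Pt k A R),
      pre f (pinv (t * s) * (s * t)) = 1 := fun R _ _ s t => pre_pinv_mul (by
    rw [map_mul, map_mul]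
    exact mul_comm _ _)
  let X : Pt k A A := toConv (AlgHom.id k A)
  let Y : Pt k A A := TorusQuot.post (Algebra.ofId k A) y
  have hpost : ∀ χ : A →ₐ[k] k, χ ((pinv (Y * X) * (X * Y)).ofConv e) =
      ((y * toConv χ)⁻¹ * (toConv χ * y)).ofConv e := by
    intro χ
    rw [← post_apply]
    congr 2
    have hY : TorusQuot.post χ Y = y := by
      show TorusQuot.post χ (TorusQuot.post (Algebra.ofId k A) y) = y
      rw [post_post, Subsingleton.elim (χ.comp (Algebra.ofId k A)) (AlgHom.id k k)]
      rfl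
    have hX : TorusQuot.post χ X = toConv χ := rfl
    rw [map_mul, post_pinv, map_mul, map_mul, hY, hX, pinv_eq_inv]
  refine ⟨by rw [← pinv_eq_inv]; exact hcomm k x y, ?_⟩
  rcases isIdempotentElem_eq_zero_or (isIdempotentElem_apply he (hcomm A X Y)) with h0 | h1
  · exfalso
    have h := hpost (1 : Pt k A k).ofConv
    rw [h0, map_zero, WithConv.toConv_ofConv, mul_one, one_mul, inv_mul_cancel, one_apply, he.counit,
      map_one] at h
    exact zero_ne_one h
  · have h := hpost x.ofConv
    rw [h1, map_one] at h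
    exact h.symm

instance normal_N0 : (N0 he).Normal := by
  constructor
  intro n hn g
  have h2 := (N0 he).mul_mem hn (commutator_mem he g⁻¹ n⁻¹ : InN0 he _)
  have e3 : n * ((n⁻¹ * g⁻¹)⁻¹ * (g⁻¹ * n⁻¹)) = n * g * n * g⁻¹ * n⁻¹ := by group
  rw [e3] at h2
  have h4 := (N0 he).mul_mem ((N0 he).mul_mem ((N0 he).inv_mem hn) h2) hn
  have e4 : n⁻¹ * (n * g * n * g⁻¹ * n⁻¹) * n = g * n * g⁻¹ := by group
  rwa [e4] at h4

theorem mk_comm (x y : Pt k A k) :
    Commute (QuotientGroup.mk' (N0 he) x) (QuotientGroup.mk' (N0 he) y) := by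
  show _ * _ = _ * _
  rw [← map_mul, ← map_mul]
  exact (QuotientGroup.eq.2 (show (y * x)⁻¹ * (x * y) ∈ N0 he from commutator_mem he x y)).symm

/-- representatives of the components of the kernel -/
theorem exists_reps : ∃ S : Set (Pt k A k), S.Finite ∧ (∀ γ ∈ S, pre f γ = 1) ∧
    ∀ h : Pt k A k, pre f h = 1 → ∃ γ ∈ S, h * γ ∈ N0 he := by
  classical
  haveI : IsNoetherianRing A := Algebra.FiniteType.isNoetherianRing k A
  let Φ : Pt k A k → Q f := fun g => (toConv (qp f) * TorusQuot.post (Algebra.ofId k (Q f)) g).ofConv e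
  let H : Set (Pt k A k) := {g | pre f g = 1}
  have hfin : (Φ '' H).Finite := by
    refine (finite_idempotents (Q f)).subset ?_
    rintro _ ⟨g, hg, rfl⟩
    refine isIdempotentElem_apply he ?_
    rw [map_mul, pre_qp, one_mul, pre_post, show pre f g = 1 from hg, map_one]
  obtain ⟨S, hSH, hSfin, hS⟩ := Set.exists_subset_image_finite_and.1
    ⟨Φ '' H, subset_rfl, hfin, (rfl : Φ '' H = Φ '' H)⟩
  refine ⟨S, hSfin, fun γ hγ => hSH hγ, fun h hh => ?_⟩
  have hh' : pre f h⁻¹ = 1 :=
    calc pre f h⁻¹ = pre f h⁻¹ * pre f h := by rw [hh, mul_one]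
      _ = 1 := by rw [← map_mul, inv_mul_cancel, map_one]
  obtain ⟨γ, hγ, hγ'⟩ : Φ h⁻¹ ∈ Φ '' S := hS.symm ▸ Set.mem_image_of_mem Φ (show h⁻¹ ∈ H from hh')
  refine ⟨γ, hγ, by rw [map_mul, hh, show pre f γ = 1 from hSH hγ, mul_one], ?_⟩
  obtain ⟨φ, hφ⟩ := exists_factor f hh
  have key : ∀ g : Pt k A k, φ (Φ g) = (h * g).ofConv e := fun g => by
    show φ ((toConv (qp f) * TorusQuot.post (Algebra.ofId k (Q f)) g).ofConv e) = _
    rw [← post_apply, map_mul, hφ, post_post, Subsingleton.elim (φ.comp (Algebra.ofId k (Q f))) (AlgHom.id k k)]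
    rfl
  rw [← key, hγ', key, mul_inv_cancel, one_apply, he.counit, map_one]

/-- an exponent killing the components of the kernel -/
theorem exists_exponent : ∃ N : ℕ, 0 < N ∧ ∀ h : Pt k A k, pre f h = 1 → h ^ N ∈ N0 he := by
  obtain ⟨S, hSfin, -, hS⟩ := exists_reps he
  let H : Subgroup (Pt k A k) := MonoidHom.ker (pre f)
  let K := H.map (QuotientGroup.mk' (N0 he))
  have hK : (K : Set (Pt k A k ⧸ N0 he)).Finite := by
    refine (hSfin.image fun γ => (QuotientGroup.mk' (N0 he) γ)⁻¹).subset ?_
    rintro _ ⟨h, hh, rfl⟩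
    obtain ⟨γ, hγ, hmem⟩ := hS h hh
    refine ⟨γ, hγ, ?_⟩
    refine (eq_inv_of_mul_eq_one_left ?_).symm
    rw [← map_mul, QuotientGroup.mk'_apply, QuotientGroup.eq_one_iff]
    exact hmem
  haveI : Finite K := hK.to_subtype
  refine ⟨Nat.card K, Nat.card_pos, fun h hh => ?_⟩
  have h1 : (⟨QuotientGroup.mk' (N0 he) h, h, hh, rfl⟩ : K) ^ Nat.card K = 1 := pow_card_eq_one'
  have h2 := congrArg Subtype.val h1
  rw [SubmonoidClass.coe_pow, OneMemClass.coe_one] at h2
  change ((h ^ Nat.card K : Pt k A k) : Pt k A k ⧸ N0 he) = 1 at h2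
  exact (QuotientGroup.eq_one_iff _).1 h2

/-- the two maps whose equalizer consists of the functions invariant under the identity component -/
abbrev J0 : Ideal A := J f ⊔ Ideal.span {1 - e}

/-- coordinate ring of the identity component of the kernel -/
abbrev D : Type u := A ⧸ J0 (f := f) (e := e)

theorem inN0_qp : InN0 he (toConv (Ideal.Quotient.mkₐ k (J0 (f := f) (e := e)))) := by
  refine ⟨(pre_eq_one_iff' f _).2 fun a ha => Ideal.Quotient.eq_zero_iff_mem.2 (Ideal.mem_sup_left ha), ?_⟩
  have h : (Ideal.Quotient.mkₐ k (J0 (f := f) (e := e))) (1 - e) = 0 :=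
    Ideal.Quotient.eq_zero_iff_mem.2 (Ideal.mem_sup_right (Ideal.subset_span rfl))
  rw [map_sub, map_one, sub_eq_zero] at h
  exact h.symm

theorem exists_factor0 {x : Pt k A R} (hx : InN0 he x) : ∃ φ : D (f := f) (e := e) →ₐ[k] R,
    TorusQuot.post φ (toConv (Ideal.Quotient.mkₐ k (J0 (f := f) (e := e)))) = x := by
  refine ⟨Ideal.Quotient.liftₐ _ x.ofConv fun a ha => ?_, rfl⟩
  have : J0 (f := f) (e := e) ≤ RingHom.ker x.ofConv := by
    refine sup_le ((pre_eq_one_iff' f x).1 hx.1) ?_
    rw [Ideal.span_singleton_le_iff_mem, RingHom.mem_ker, map_sub, map_one, hx.2, sub_self]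
  exact this ha

/-- invariance under the identity component at universal points -/
def IsInv (_ : IdLift f e) (c : A) : Prop :=
  ((toConv (Algebra.TensorProduct.includeLeft : A →ₐ[k] A ⊗[k] D (f := f) (e := e)) : Pt k A _) *
      TorusQuot.post Algebra.TensorProduct.includeRight
        (toConv (Ideal.Quotient.mkₐ k (J0 (f := f) (e := e))))).ofConv c = c ⊗ₜ 1

theorem IsInv.apply {c : A} (hc : IsInv he c) {x n : Pt k A R} (hn : InN0 he n) :
    (x * n).ofConv c = x.ofConv c := by
  obtain ⟨φ, rfl⟩ := exists_factor0 he hn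
  let Λ : A ⊗[k] D (f := f) (e := e) →ₐ[k] R :=
    Algebra.TensorProduct.lift x.ofConv φ fun _ _ => Commute.all _ _
  have h := congrArg Λ hc
  rw [← post_apply, map_mul] at h
  have h1 : TorusQuot.post Λ (toConv (Algebra.TensorProduct.includeLeft : A →ₐ[k] _)) = x :=
    WithConv.ext (AlgHom.ext fun a => by simp [Λ])
  have h2 : Λ.comp Algebra.TensorProduct.includeRight = φ := AlgHom.ext fun a => by simp [Λ]
  rw [h1, post_post, h2] at h
  rw [h]
  simp [Λ]

end Groth.L08.TorusQuot
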