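import Mathlib.AlgebraicGeometry.Morphisms.FiniteType
import Mathlib.AlgebraicGeometry.PullbackCarrier
import Mathlib.Topology.JacobsonSpace

/-!
# Open surjections with connected fibres over closed points
-/

set_option autoImplicit false

universe u

open CategoryTheory CategoryTheory.Limits AlgebraicGeometry

namespace Groth.L08.TorusQuot

/-- an open surjection onto a connected Jacobson space with connected closed fibres has connected source -/
theorem connectedSpace_of_open_surjective {X Y : Type u} [TopologicalSpace X] [TopologicalSpace Y]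
    [ConnectedSpace Y] [JacobsonSpace Y] (c : X → Y) (hopen : IsOpenMap c) (hs : Function.Surjective c)
    (hfib : ∀ y : Y, IsClosed ({y} : Set Y) → IsPreconnected (c ⁻¹' {y})) : ConnectedSpace X := by
  obtain ⟨y0⟩ := (inferInstance : Nonempty Y)
  obtain ⟨x0, -⟩ := hs y0
  rw [connectedSpace_iff_clopen]
  refine ⟨⟨x0⟩, fun s hs' => ?_⟩
  by_contra hne
  push Not at hne
  obtain ⟨a, ha⟩ := hne.1
  obtain ⟨b, hb⟩ := (Set.ne_univ_iff_exists_notMem s).1 hne.2
  have hU := hopen _ hs'.isOpen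
  have hV := hopen _ hs'.compl.isOpen
  have hmeet : (c '' s ∩ c '' sᶜ).Nonempty := by
    have h := isPreconnected_univ (c '' s) (c '' sᶜ) hU hV (fun y _ => by
        obtain ⟨x, rfl⟩ := hs y
        by_cases hx : x ∈ s
        · exact Or.inl ⟨x, hx, rfl⟩
        · exact Or.inr ⟨x, hx, rfl⟩) ⟨c a, trivial, a, ha, rfl⟩ ⟨c b, trivial, b, hb, rfl⟩
    rwa [Set.univ_inter] at h
  obtain ⟨z, hz, hzc⟩ := nonempty_inter_closedPoints hmeet (hU.inter hV).isLocallyClosed
  obtain ⟨⟨p, hp, hpz⟩, ⟨q, hq, hqz⟩⟩ := hz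
  exact hq ((hfib z hzc).subset_isClopen hs' ⟨p, hpz, hp⟩ hqz)

/-- a cartesian square over a point: the source covers the fibre -/
theorem range_of_isPullback {X Y W Z : Scheme.{u}} {t : W ⟶ X} {p : W ⟶ Z} {c : X ⟶ Y} {z : Z ⟶ Y}
    (h : IsPullback t p c z) : Set.range t = c ⁻¹' Set.range z := by
  rw [← h.isoPullback_hom_fst, ← Scheme.Pullback.range_fst]
  exact Set.ext fun x => ⟨fun ⟨w, hw⟩ => ⟨h.isoPullback.hom w, hw⟩, fun ⟨w, hw⟩ => ⟨h.isoPullback.inv w, by
    rw [← hw, ← Scheme.Hom.comp_apply, h.isoPullback.inv_hom_id_assoc]⟩⟩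

end Groth.L08.TorusQuot
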