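import Groth.Agent.L08.TorusQuot.Connected
import Groth.Agent.L08.Rosenlicht
import Mathlib.RingTheory.Flat.FaithfullyFlat.Algebra
import Mathlib.LinearAlgebra.LinearIndependent.Basic

/-!
# The kernel of the largest torus quotient of an affine group variety has no idempotents
-/

set_option autoImplicit false
set_option linter.style.haveILetI false
set_option linter.unusedSectionVars false

universe u

open TensorProduct WithConv

noncomputable section

namespace Groth.L08.TorusQuot

open HopfDim (rt)

theorem mul_apply_groupLike {k A R : Type u} [Field k] [CommRing A] [HopfAlgebra k A] [CommRing R] [Algebra k R]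
    {a : A} (ha : IsGroupLikeElem k a) (x y : Pt k A R) : (x * y).ofConv a = x.ofConv a * y.ofConv a := by
  rw [AlgHom.convMul_apply, ha.comul_eq_tmul_self, Algebra.TensorProduct.lift_tmul]

theorem pow_apply_groupLike {k A R : Type u} [Field k] [CommRing A] [HopfAlgebra k A] [CommRing R] [Algebra k R]
    {a : A} (ha : IsGroupLikeElem k a) (x : Pt k A R) (n : ℕ) : (x ^ n).ofConv a = x.ofConv a ^ n := by
  induction n with
  | zero => rw [pow_zero, pow_zero, one_apply, ha.counit_eq_one, map_one]
  | succ n ih => rw [pow_succ, pow_succ, mul_apply_groupLike ha, ih]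

theorem isGroupLikeElem_mon {k : Type u} [Field k] {r : ℕ} (v : Fin r → ℤ) : IsGroupLikeElem k (mon k r v) :=
  MonoidAlgebra.isGroupLikeElem_single_one _

variable {k : Type u} [Field k] [IsAlgClosed k] {r : ℕ}

/-- points of a split torus have roots -/
theorem exists_root (t : Pt k (Laur k r) k) {N : ℕ} (hN : 0 < N) : ∃ s : Pt k (Laur k r) k, s ^ N = t := by
  classical
  let th : Multiplicative (Fin r → ℤ) →* kˣ :=
    (t.ofConv.toMonoidHom.comp (MonoidAlgebra.of k _)).toHomUnits
  have hroot : ∀ i, ∃ a : kˣ, a ^ N = th (Multiplicative.ofAdd (Pi.single i 1)) := fun i => by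
    obtain ⟨z, hz⟩ := IsAlgClosed.exists_pow_nat_eq ((th (Multiplicative.ofAdd (Pi.single i 1)) : kˣ) : k) hN
    have hz0 : z ≠ 0 := fun h => by
      rw [h, zero_pow hN.ne'] at hz
      exact (th (Multiplicative.ofAdd (Pi.single i 1))).ne_zero hz.symm
    exact ⟨Units.mk0 z hz0, Units.ext (by rw [Units.val_pow_eq_pow_val, Units.val_mk0, hz])⟩
  choose a ha using hroot
  let φ : Multiplicative (Fin r → ℤ) →* kˣ :=
    { toFun := fun v => ∏ i, a i ^ (Multiplicative.toAdd v i)
      map_one' := by simp
      map_mul' := fun v w => by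
        rw [← Finset.prod_mul_distrib]
        exact Finset.prod_congr rfl fun i _ => by rw [toAdd_mul, Pi.add_apply, zpow_add] }
  let s : Pt k (Laur k r) k := toConv (MonoidAlgebra.lift k k _ ((Units.coeHom k).comp φ))
  refine ⟨s, WithConv.ofConv_injective (MonoidAlgebra.algHom_ext (fun v => ?_) (Subsingleton.elim _ _))⟩
  have h1 : (s ^ N).ofConv (MonoidAlgebra.single v 1) = ((φ v ^ N : kˣ) : k) := by
    rw [pow_apply_groupLike (MonoidAlgebra.isGroupLikeElem_single_one v), Units.val_pow_eq_pow_val]
    simp [s]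
  have h2 : φ v ^ N = th v := by
    have hv : v = ∏ i, Multiplicative.ofAdd (Pi.single i (1 : ℤ)) ^ (Multiplicative.toAdd v i) := by
      refine Multiplicative.toAdd.injective (funext fun j => ?_)
      simp [toAdd_prod, Finset.sum_apply, Pi.single_apply]
    conv_rhs => rw [hv, map_prod]
    show (∏ i, a i ^ (Multiplicative.toAdd v i)) ^ N = _
    rw [← Finset.prod_pow]
    exact Finset.prod_congr rfl fun i _ => by rw [map_zpow, ← ha i]; group
  rw [h1, h2]
  rfl

variable {A : Type u} [CommRing A] [IsDomain A] [HopfAlgebra k A] [Algebra.FiniteType k A]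
  {f : Laur k r →ₐc[k] A} (hf : Function.Injective f)

include hf in
/-- every point of the torus lifts -/
theorem exists_lift_point (t : Pt k (Laur k r) k) : ∃ y : Pt k A k, pre f y = t := by
  letI : Algebra (Laur k r) A := (f : Laur k r →+* A).toAlgebra
  haveI : Module.FaithfullyFlat (Laur k r) A := HopfImage.faithfullyFlat_of_injective f hf
  let I : Ideal (Laur k r) := RingHom.ker t.ofConv
  have hne : I.map (algebraMap (Laur k r) A) ≠ ⊤ := fun h => by
    have h2 := Ideal.comap_map_eq_self_of_faithfullyFlat (B := A) I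
    rw [h, Ideal.comap_top] at h2
    exact RingHom.ker_ne_top _ h2.symm
  obtain ⟨m, hm, hle⟩ := Ideal.exists_le_maximal _ hne
  haveI := hm
  obtain ⟨χ, rfl⟩ := HopfDim.exists_point (k := k) m
  refine ⟨toConv χ, WithConv.ofConv_injective (AlgHom.ext fun b => ?_)⟩
  have hb : b - algebraMap k _ (t.ofConv b) ∈ I := by
    rw [RingHom.mem_ker, map_sub, AlgHom.commutes, Algebra.algebraMap_self, RingHom.id_apply, sub_self]
  have h2 : χ (f (b - algebraMap k _ (t.ofConv b))) = 0 := hle (Ideal.mem_map_of_mem _ hb)
  rw [map_sub, map_sub, AlgHomClass.commutes, AlgHom.commutes, sub_eq_zero] at h2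
  rw [pre_apply]
  simpa using h2

variable {e : A} (he : IdLift f e)

theorem mul_apply_idem_aux {R : Type u} [CommRing R] [Algebra k R] [Algebra.FiniteType k R] {h n : Pt k A R}
    (hh : pre f h = 1) (hn : InN0 he n) : (h * n).ofConv e = h.ofConv e := by
  refine idem_ext (k := k) (isIdempotentElem_apply he (by rw [map_mul, hh, hn.1, one_mul]))
    (isIdempotentElem_apply he hh) fun χ => ?_
  rw [← post_apply, ← post_apply, map_mul]
  have ha : pre f (post χ h) = 1 := by rw [pre_post, hh, map_one]
  have hb : post χ n ∈ N0 he := hn.post _ χ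
  rcases isIdempotentElem_eq_zero_or (isIdempotentElem_apply he ha) with h0 | h0
  · rw [h0]
    have hab : pre f (post χ h * post χ n) = 1 := by rw [map_mul, ha, hb.1, one_mul]
    refine (isIdempotentElem_eq_zero_or (isIdempotentElem_apply he hab)).resolve_right fun h3 => ?_
    have h4 : (post χ h * post χ n) * (post χ n)⁻¹ ∈ N0 he :=
      (N0 he).mul_mem ⟨hab, h3⟩ ((N0 he).inv_mem hb)
    rw [mul_inv_cancel_right] at h4
    exact zero_ne_one (h0.symm.trans h4.2)
  · rw [h0]
    exact ((N0 he).mul_mem ⟨ha, h0⟩ hb).2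

theorem post_lift_mul {S S' : Type u} [CommRing S] [Algebra k S] [CommRing S'] [Algebra k S']
    {R : Type u} [CommRing R] [Algebra k R] (i : S →ₐ[k] R) (j : S' →ₐ[k] R) (x : Pt k A S) (y : Pt k A S')
    (a : A) : Algebra.TensorProduct.lift i j (fun _ _ => Commute.all _ _)
      ((post Algebra.TensorProduct.includeLeft x * post Algebra.TensorProduct.includeRight y).ofConv a) =
      (post i x * post j y).ofConv a := by
  rw [← post_apply, map_mul, post_post, post_post]
  have e1 : (Algebra.TensorProduct.lift i j (fun _ _ => Commute.all _ _)).comp Algebra.TensorProduct.includeLeft = i :=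
    AlgHom.ext fun a => by simp
  have e2 : (Algebra.TensorProduct.lift i j (fun _ _ => Commute.all _ _)).comp Algebra.TensorProduct.includeRight = j :=
    AlgHom.ext fun a => by simp
  rw [e1, e2]

/-- translation invariance of the idempotent -/
theorem mul_apply_idem {R : Type u} [CommRing R] [Algebra k R] {h n : Pt k A R} (hh : pre f h = 1)
    (hn : InN0 he n) : (h * n).ofConv e = h.ofConv e := by
  obtain ⟨φ, rfl⟩ := exists_factor f hh
  obtain ⟨ψ, rfl⟩ := exists_factor0 he hn
  have key := mul_apply_idem_aux he (R := Q f ⊗[k] D (f := f) (e := e))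
    (h := post Algebra.TensorProduct.includeLeft (toConv (qp f)))
    (n := post Algebra.TensorProduct.includeRight (toConv (Ideal.Quotient.mkₐ k (J0 (f := f) (e := e)))))
    (by rw [pre_post, pre_qp]; exact map_one _) ((inN0_qp he).post _ _)
  have h3 := congrArg (Algebra.TensorProduct.lift φ ψ fun _ _ => Commute.all _ _) key
  rw [post_lift_mul] at h3
  refine h3.trans ?_
  exact (Algebra.TensorProduct.lift_tmul _ _ _ _ _).trans (by rw [map_one, mul_one, post_apply]; rfl)

theorem pow_commute_mem (a b : Pt k A k) (n : ℕ) : (a ^ n * b ^ n)⁻¹ * (a * b) ^ n ∈ N0 he := by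
  have h : QuotientGroup.mk' (N0 he) (a ^ n * b ^ n) = QuotientGroup.mk' (N0 he) ((a * b) ^ n) := by
    simp only [map_mul, map_pow]
    exact ((mk_comm he a b).mul_pow n).symm
  exact QuotientGroup.eq.1 h

variable {N : ℕ} (hN : ∀ h : Pt k A k, pre f h = 1 → h ^ N ∈ N0 he)

/-- functions invariant at the points -/
def InvPts (c : A) : Prop := ∀ x n : Pt k A k, InN0 he n → (x * n).ofConv c = x.ofConv c

theorem InvPts.congr {c : A} (hc : InvPts he c) {x y : Pt k A k} (h : x⁻¹ * y ∈ N0 he) :
    y.ofConv c = x.ofConv c := by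
  rw [show y = x * (x⁻¹ * y) by rw [mul_inv_cancel_left]]
  exact hc x _ h

theorem InvPts.rt {c : A} (hc : InvPts he c) (z : Pt k A k) : InvPts he (rt z c) := by
  intro x n hn
  show (x * n).ofConv.comp (HopfDim.rt z) c = x.ofConv.comp (HopfDim.rt z) c
  rw [HopfDim.point_rt, HopfDim.point_rt]
  refine hc.congr he ?_
  rw [show (x * z)⁻¹ * (x * n * z) = z⁻¹ * n * z by group]
  simpa using (inferInstance : (N0 he).Normal).conj_mem n hn z⁻¹

/-- the power map -/
def powA (N : ℕ) : A →ₐ[k] A := ((toConv (AlgHom.id k A) : Pt k A A) ^ N).ofConv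

theorem apply_powA {R : Type u} [CommRing R] [Algebra k R] (x : Pt k A R) (c : A) :
    x.ofConv (powA (k := k) N c) = (x ^ N).ofConv c := by
  have h : post x.ofConv (toConv (AlgHom.id k A) : Pt k A A) = x := rfl
  conv_rhs => rw [← h, ← map_pow]
  rfl

theorem rt_apply (z : Pt k A k) (x : Pt k A k) (c : A) : x.ofConv (rt z c) = (x * z).ofConv c :=
  DFunLike.congr_fun (HopfDim.point_rt x z) c

include hN in
theorem pow_mem_aux {R : Type u} [CommRing R] [Algebra k R] [Algebra.FiniteType k R] (x : Pt k A R)
    {h : Pt k A R} (hh : pre f h = 1) : InN0 he (pinv (x ^ N) * (x * h) ^ N) := by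
  have hm1 : pre f (pinv (x ^ N) * (x * h) ^ N) = 1 :=
    pre_pinv_mul (by rw [map_pow, map_pow, map_mul, hh, mul_one])
  refine ⟨hm1, eq_one_of_points (k := k) (isIdempotentElem_apply he hm1) fun χ => ?_⟩
  rw [← post_apply, map_mul, post_pinv, map_pow, map_pow, map_mul, pinv_eq_inv]
  have h1 := pow_commute_mem he (post χ x) (post χ h) N
  have h2 := hN (post χ h) (by rw [pre_post, hh, map_one])
  have h3 := (N0 he).mul_mem h2 h1
  rw [show (post χ h) ^ N * ((post χ x ^ N * post χ h ^ N)⁻¹ * (post χ x * post χ h) ^ N) =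
    (post χ x ^ N)⁻¹ * (post χ x * post χ h) ^ N by group] at h3
  exact h3.2

include hN in
theorem apply_powA_mul {c : A} (hc : IsInv he c) {R : Type u} [CommRing R] [Algebra k R]
    [Algebra.FiniteType k R] (x : Pt k A R) {h : Pt k A R} (hh : pre f h = 1) :
    (x * h).ofConv (powA (k := k) N c) = x.ofConv (powA (k := k) N c) := by
  rw [apply_powA, apply_powA,
    show (x * h) ^ N = x ^ N * (pinv (x ^ N) * (x * h) ^ N) by rw [← mul_assoc, mul_pinv, one_mul]]
  exact hc.apply he (pow_mem_aux he hN x hh)

include hN in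
/-- power of an invariant function comes from the torus -/
theorem powA_mem_range {c : A} (hc : IsInv he c) : powA (k := k) N c ∈ Set.range f := by
  let x : Pt k A (A ⊗[k] Q f) := toConv Algebra.TensorProduct.includeLeft
  let h : Pt k A (A ⊗[k] Q f) := post Algebra.TensorProduct.includeRight (toConv (qp f))
  have hh : pre f h = 1 := by rw [pre_post, pre_qp]; exact map_one _
  have h4 := apply_powA_mul he hN hc x hh
  have e : ∀ a : A, (x * h).ofConv a =
      TensorProduct.map LinearMap.id (qp f).toLinearMap (Coalgebra.comul (R := k) a) := fun a => by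
    rw [AlgHom.convMul_apply]
    induction Coalgebra.comul (R := k) a with
    | zero => simp
    | add p q hp hq => simp only [map_add, hp, hq]
    | tmul p q => simp [x, h, qp]
  rw [e] at h4
  exact Groth.L25.UnipExt.mem_range_of_fixed f (J := J f) rfl h4

include hf hN in
theorem eq_zero_of_powA (hN0 : 0 < N) {c : A} (hc : InvPts he c) (h : powA (k := k) N c = 0) : c = 0 := by
  classical
  obtain ⟨S, hSfin, hSH, hS⟩ := exists_reps he
  have hzero : ∏ γ ∈ hSfin.toFinset, rt γ c = 0 := by
    refine eq_of_points (k := k) fun χ => ?_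
    rw [map_prod, map_zero]
    obtain ⟨s, hs⟩ := exists_root (pre f (toConv χ : Pt k A k)) hN0
    obtain ⟨y, rfl⟩ := exists_lift_point hf s
    have hker : pre f ((y ^ N)⁻¹ * toConv χ) = 1 := by
      rw [← pinv_eq_inv]
      exact pre_pinv_mul (by rw [map_pow, hs])
    obtain ⟨γ, hγ, hmem⟩ := hS _ hker
    refine Finset.prod_eq_zero (hSfin.mem_toFinset.2 hγ) ?_
    show (toConv χ : Pt k A k).ofConv (rt γ c) = 0
    rw [rt_apply, hc.congr he (x := y ^ N) (by rwa [mul_assoc] at hmem), ← apply_powA, h, map_zero]
  obtain ⟨γ, -, hγ⟩ := Finset.prod_eq_zero_iff.1 hzero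
  exact (HopfDim.rtEquiv γ).injective (hγ.trans (map_zero _).symm)

include hf hN in
/-- the invariant functions come from the torus -/
theorem mem_range_of_isInv (hN0 : 0 < N) (hgl : ∀ a : A, IsGroupLikeElem k a → a ∈ Set.range f)
    {c : A} (hc : IsInv he c) : c ∈ Set.range f := by
  classical
  have hcp : InvPts he c := fun x n hn => hc.apply he hn
  obtain ⟨b, hb⟩ := powA_mem_range he hN hc
  let W : Submodule k (Laur k r) :=
    { carrier := {b' | ∃ c' : A, InvPts he c' ∧ powA (k := k) N c' = f b'}
      add_mem' := by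
        rintro a a' ⟨c₁, h₁, e₁⟩ ⟨c₂, h₂, e₂⟩
        exact ⟨c₁ + c₂, fun x n hn => by rw [map_add, map_add, h₁ x n hn, h₂ x n hn],
          by rw [map_add, map_add, e₁, e₂]⟩
      zero_mem' := ⟨0, fun x n _ => by rw [map_zero, map_zero], by rw [map_zero, map_zero]⟩
      smul_mem' := by
        rintro l a ⟨c₁, h₁, e₁⟩
        exact ⟨l • c₁, fun x n hn => by rw [map_smul, map_smul, h₁ x n hn], by rw [map_smul, map_smul, e₁]⟩ }
  -- translating by points
  have htrans : ∀ (c' : A) (b' : Laur k r) (y : Pt k A k), InvPts he c' → powA (k := k) N c' = f b' →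
      ∀ x : Pt k A k, x.ofConv (powA (k := k) N (rt (y ^ N) c')) = (pre f x * pre f y).ofConv b' := by
    intro c' b' y hc' hb' x
    rw [apply_powA, rt_apply, ← map_mul, pre_apply, ← hb', apply_powA]
    refine hc'.congr he ?_
    have := (N0 he).inv_mem (pow_commute_mem he x y N)
    rwa [mul_inv_rev, inv_inv] at this
  -- all monomials occurring lie in `W`
  have hW : ∀ v ∈ b.coeff.support, MonoidAlgebra.single v (1 : k) ∈ W := by
    intro v hv
    by_contra hvW
    obtain ⟨μ', hμv, hμW⟩ := Submodule.exists_dual_map_eq_bot_of_notMem hvW inferInstance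
    have hμW' : ∀ z ∈ W, μ' z = 0 := fun z hz =>
      (Submodule.eq_bot_iff _).1 hμW _ (Submodule.mem_map_of_mem hz)
    let ev : Multiplicative (Fin r → ℤ) → (Pt k (Laur k r) k →* k) := fun v =>
      { toFun := fun t => t.ofConv (MonoidAlgebra.single v 1)
        map_one' := by rw [one_apply, (MonoidAlgebra.isGroupLikeElem_single_one v).counit_eq_one, map_one]
        map_mul' := fun s t => mul_apply_groupLike (MonoidAlgebra.isGroupLikeElem_single_one v) s t }
    have hev : Function.Injective ev := fun v w hvw => by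
      have h1 : (MonoidAlgebra.single v 1 : Laur k r) = MonoidAlgebra.single w 1 :=
        eq_of_points (k := k) fun χ => DFunLike.congr_fun hvw (toConv χ)
      exact MonoidAlgebra.single_left_injective one_ne_zero h1
    have hli := (linearIndependent_monoidHom (Pt k (Laur k r) k) k).comp ev hev
    have hsum : ∑ w ∈ b.coeff.support, (b.coeff w * μ' (MonoidAlgebra.single w 1)) •
        ((ev w : Pt k (Laur k r) k →* k) : Pt k (Laur k r) k → k) = 0 := by
      funext t
      obtain ⟨y, rfl⟩ := exists_lift_point hf t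
      let bt : Laur k r := ∑ w ∈ b.coeff.support,
        (b.coeff w * (pre f y).ofConv (MonoidAlgebra.single w 1)) • MonoidAlgebra.single w 1
      have hbt : bt ∈ W := by
        refine ⟨rt (y ^ N) c, hcp.rt he _, eq_of_points (k := k) fun χ => ?_⟩
        show (toConv χ : Pt k A k).ofConv _ = (pre f (toConv χ : Pt k A k)).ofConv bt
        rw [htrans c b y hcp hb.symm]
        conv_lhs => rw [← b.sum_coeff_single, Finsupp.sum, map_sum]
        rw [map_sum]
        refine Finset.sum_congr rfl fun w _ => ?_
        have hsingle : MonoidAlgebra.single w (b.coeff w) = b.coeff w • (MonoidAlgebra.single w 1 : Laur k r) := by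
          rw [MonoidAlgebra.smul_single, smul_eq_mul, mul_one]
        rw [hsingle, map_smul, map_smul, mul_apply_groupLike (MonoidAlgebra.isGroupLikeElem_single_one w),
          smul_eq_mul, smul_eq_mul]
        ring
      have h0 := hμW' bt hbt
      rw [map_sum] at h0
      rw [Finset.sum_apply, Pi.zero_apply, ← h0]
      refine Finset.sum_congr rfl fun w _ => ?_
      simp only [Pi.smul_apply, map_smul, smul_eq_mul, ev, MonoidHom.coe_mk, OneHom.coe_mk]
      ring
    have h3 := linearIndependent_iff'.1 hli b.coeff.support _ hsum v hv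
    exact (mul_ne_zero (Finsupp.mem_support_iff.1 hv) hμv) h3
  -- each of these gives a character
  have hchar : ∀ v ∈ b.coeff.support, ∃ cv : A, InvPts he cv ∧ powA (k := k) N cv = f (MonoidAlgebra.single v 1) ∧
      cv ∈ Set.range f := by
    intro v hv
    obtain ⟨cv, hcv, hpv⟩ := hW v hv
    refine ⟨cv, hcv, hpv, hgl cv ?_⟩
    have hcv0 : cv ≠ 0 := fun h => by
      rw [h, map_zero] at hpv
      exact MonoidAlgebra.single_ne_zero.2 one_ne_zero (hf (hpv.symm.trans (map_zero f).symm))
    refine Rosenlicht.isGroupLikeElem_of_isUnit (fun z hz => isIdempotentElem_eq_zero_or hz)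
      (isUnit_of_points (k := k) fun χ hχ => hcv0 ?_) ?_
    · -- `cv (z * y ^ N) = v (y) * cv z`
      let z : Pt k A k := toConv χ
      have h1 : powA (k := k) N (rt z cv) = 0 := by
        refine eq_of_points (k := k) fun ξ => ?_
        let y : Pt k A k := toConv ξ
        show y.ofConv _ = _
        rw [map_zero, apply_powA, rt_apply]
        have hsc : rt (y ^ N) cv = (pre f y).ofConv (MonoidAlgebra.single v 1) • cv := by
          rw [← sub_eq_zero]
          refine eq_zero_of_powA hf he hN hN0 (fun x n hn => ?_) (eq_of_points (k := k) fun ζ => ?_)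
          · rw [map_sub, map_sub, map_smul, map_smul, hcv.rt he _ x n hn, hcv x n hn]
          · show (toConv ζ : Pt k A k).ofConv _ = ζ 0
            rw [map_sub, map_smul, map_sub, map_smul, map_zero, htrans cv _ y hcv hpv,
              mul_apply_groupLike (MonoidAlgebra.isGroupLikeElem_single_one v), hpv, ← pre_apply,
              smul_eq_mul, mul_comm, sub_self]
        have h2 : (z * y ^ N).ofConv cv = 0 := by
          rw [← rt_apply, hsc, map_smul, show z.ofConv cv = 0 from hχ, smul_zero]
        rw [← h2]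
        exact hcv.congr he (show (z * y ^ N)⁻¹ * (y ^ N * z) ∈ N0 he from commutator_mem he (y ^ N) z)
      exact (HopfDim.rtEquiv z).injective
        ((eq_zero_of_powA hf he hN hN0 (hcv.rt he z) h1).trans (map_zero _).symm)
    · have := congrArg (1 : Pt k A k).ofConv hpv
      rw [apply_powA, one_pow, one_apply, one_apply, CoalgHomClass.counit_comp_apply,
        (MonoidAlgebra.isGroupLikeElem_single_one v).counit_eq_one] at this
      exact this
  choose cv hcv hpv hrv using hchar
  have hsum : c = ∑ v ∈ b.coeff.support.attach, b.coeff v.1 • cv v.1 v.2 := by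
    rw [← sub_eq_zero]
    refine eq_zero_of_powA hf he hN hN0 (fun x n hn => ?_) ?_
    · simp only [map_sub, map_sum, map_smul, hcp x n hn, hcv _ _ x n hn]
    · have hf' : f b = ∑ v ∈ b.coeff.support.attach, b.coeff v.1 • f (MonoidAlgebra.single v.1 1) := by
        rw [Finset.sum_attach b.coeff.support (fun v => b.coeff v • f (MonoidAlgebra.single v 1))]
        conv_lhs => rw [← b.sum_coeff_single, Finsupp.sum, map_sum]
        refine Finset.sum_congr rfl fun v _ => ?_
        rw [← map_smul, MonoidAlgebra.smul_single, smul_eq_mul, mul_one]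
      simp only [map_sub, map_sum, map_smul, hpv, ← hb, hf', sub_self]
  rw [hsum]
  show _ ∈ (f : Laur k r →ₐ[k] A).range
  exact Subalgebra.sum_mem _ fun v _ => Subalgebra.smul_mem _ (hrv v.1 v.2) _

end Groth.L08.TorusQuot
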