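import Groth.Agent.L08.TorusQuot.Invariant

/-!
# The kernel of the largest torus quotient of an affine group variety: connectedness
-/

set_option autoImplicit false
set_option linter.style.haveILetI false
set_option linter.unusedSectionVars false
set_option backward.isDefEq.respectTransparency.types false

universe u

open TensorProduct WithConv

noncomputable section

namespace Groth.L08.TorusQuot

variable {k : Type u} [Field k] [IsAlgClosed k] {A : Type u} [CommRing A] [IsDomain A] [HopfAlgebra k A]
  [Algebra.FiniteType k A] {r : ℕ} {f : Laur k r →ₐc[k] A} {e : A} (he : IdLift f e)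

/-- universal point times universal point of the identity component -/
def univN (_ : IdLift f e) : Pt k A (A ⊗[k] D (f := f) (e := e)) :=
  (toConv (Algebra.TensorProduct.includeLeft : A →ₐ[k] A ⊗[k] D (f := f) (e := e))) *
    post Algebra.TensorProduct.includeRight (toConv (Ideal.Quotient.mkₐ k (J0 (f := f) (e := e))))

theorem isInv_iff (c : A) : IsInv he c ↔ (univN he).ofConv c = c ⊗ₜ 1 := Iff.rfl

theorem isInv_f (b : Laur k r) : IsInv he (f b) := by
  show (univN he).ofConv (f b) = f b ⊗ₜ 1
  rw [← pre_apply]
  have h : pre f (univN he) =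
      pre f (toConv (Algebra.TensorProduct.includeLeft : A →ₐ[k] A ⊗[k] D (f := f) (e := e))) := by
    refine ((pre f).map_mul _ _).trans ?_
    rw [pre_post, (inN0_qp he).1]
    exact (congrArg _ ((post (A := Laur k r) _).map_one)).trans (_root_.mul_one _)
  rw [h, pre_apply]
  rfl

include he in
/-- the idempotent of the identity component is trivial -/
theorem idLift_eq_one (hf : Function.Injective f) (hgl : ∀ a : A, IsGroupLikeElem k a → a ∈ Set.range f) :
    qp f e = 1 := by
  classical
  obtain ⟨N, hN0, hN⟩ := exists_exponent he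
  letI : Algebra (Laur k r) A := (f : Laur k r →+* A).toAlgebra
  haveI : IsScalarTower k (Laur k r) A := IsScalarTower.of_algebraMap_eq fun c => (AlgHomClass.commutes f c).symm
  haveI : Module.FaithfullyFlat (Laur k r) A := HopfImage.faithfullyFlat_of_injective f hf
  let u : A →ₐ[Laur k r] A ⊗[k] D (f := f) (e := e) := Algebra.TensorProduct.includeLeft
  let v : A →ₐ[Laur k r] A ⊗[k] D (f := f) (e := e) :=
    { (univN he).ofConv.toRingHom with commutes' := fun b => (isInv_iff he _).1 (isInv_f he b) }
  let Ψ := v.toLinearMap - u.toLinearMap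
  have hex : Function.Exact (Algebra.linearMap (Laur k r) A) Ψ := by
    intro c
    constructor
    · intro hc
      have hc' : IsInv he c := (isInv_iff he c).2 (sub_eq_zero.1 hc)
      exact mem_range_of_isInv hf he hN hN0 hgl hc'
    · rintro ⟨b, rfl⟩
      exact sub_eq_zero.2 ((isInv_iff he _).1 (isInv_f he b))
  let L : A →ₐ[k] A ⊗[Laur k r] A := Algebra.TensorProduct.includeLeft
  let R2 : A →ₐ[k] A ⊗[Laur k r] A :=
    (Algebra.TensorProduct.includeRight : A →ₐ[Laur k r] A ⊗[Laur k r] A).restrictScalars k
  have hLR : pre f (toConv L : Pt k A _) = pre f (toConv R2) := by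
    refine WithConv.ext (AlgHom.ext fun b => ?_)
    show algebraMap (Laur k r) A b ⊗ₜ[Laur k r] (1 : A) = (1 : A) ⊗ₜ[Laur k r] algebraMap (Laur k r) A b
    rw [Algebra.algebraMap_eq_smul_one, TensorProduct.smul_tmul]
  let T : Pt k A (A ⊗[Laur k r] A) := pinv (toConv L) * toConv R2
  let w := T.ofConv e
  let MU : A ⊗[Laur k r] A →ₐ[k] A ⊗[Laur k r] (A ⊗[k] D (f := f) (e := e)) :=
    (Algebra.TensorProduct.map (AlgHom.id (Laur k r) A) u).restrictScalars k
  let MV : A ⊗[Laur k r] A →ₐ[k] A ⊗[Laur k r] (A ⊗[k] D (f := f) (e := e)) :=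
    (Algebra.TensorProduct.map (AlgHom.id (Laur k r) A) v).restrictScalars k
  have hw : (Ψ.lTensor A) w = 0 := by
    have h1 : ∀ z, (Ψ.lTensor A) z = MV z - MU z := by
      intro z
      induction z with
      | zero => simp
      | tmul a c => simp [Ψ, MV, MU, TensorProduct.tmul_sub]
      | add p q hp hq => simp only [map_add, hp, hq]; abel
    rw [h1, sub_eq_zero]
    letI : CommRing (A ⊗[Laur k r] (A ⊗[k] D (f := f) (e := e))) := inferInstance
    let incR : A ⊗[k] D (f := f) (e := e) →ₐ[k] A ⊗[Laur k r] (A ⊗[k] D (f := f) (e := e)) :=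
      (Algebra.TensorProduct.includeRight :
        (A ⊗[k] D (f := f) (e := e)) →ₐ[Laur k r] A ⊗[Laur k r] (A ⊗[k] D (f := f) (e := e))).restrictScalars k
    let i2 : D (f := f) (e := e) →ₐ[k] A ⊗[k] D (f := f) (e := e) := Algebra.TensorProduct.includeRight
    let n' := post (R := A ⊗[k] D (f := f) (e := e)) (R' := A ⊗[Laur k r] (A ⊗[k] D (f := f) (e := e))) incR (post i2 (toConv (Ideal.Quotient.mkₐ k (J0 (f := f) (e := e)))))
    have hVU : post MV T = post MU T * n' := by
      rw [map_mul, map_mul, post_pinv, post_pinv, mul_assoc]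
      congr 1
      · congr 1
        exact WithConv.ext (AlgHom.ext fun a => by simp [L, MV, MU])
      · have e1 : post MV (toConv R2) = post incR (univN he) :=
          WithConv.ext (AlgHom.ext fun a => by simp [R2, MV, incR, v])
        have e2 : post MU (toConv R2) =
            post incR (toConv (Algebra.TensorProduct.includeLeft : A →ₐ[k] A ⊗[k] D (f := f) (e := e))) :=
          WithConv.ext (AlgHom.ext fun a => by simp [R2, MU, incR, u])
        rw [e1, e2, univN, map_mul]
    calc MV w = (post MV T).ofConv e := rfl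
      _ = (post MU T * n').ofConv e := by rw [hVU]
      _ = (post MU T).ofConv e := mul_apply_idem he
          (by rw [pre_post]; exact (congrArg _ (pre_pinv_mul hLR)).trans (map_one _))
          (((inN0_qp he).post _ _).post _ _)
      _ = MU w := rfl
  obtain ⟨z, hz⟩ := ((Module.Flat.lTensor_exact A hex) w).1 hw
  obtain ⟨a, ha⟩ : ∃ a : A, w = a ⊗ₜ[Laur k r] (1 : A) := by
    rw [← hz]
    clear hz
    induction z with
    | zero => exact ⟨0, by simp⟩
    | add p q hp hq =>
      obtain ⟨a, ha⟩ := hp
      obtain ⟨b, hb⟩ := hq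
      exact ⟨a + b, by rw [map_add, ha, hb, TensorProduct.add_tmul]⟩
    | tmul a b =>
      refine ⟨b • a, ?_⟩
      rw [LinearMap.lTensor_tmul, Algebra.linearMap_apply, Algebra.algebraMap_eq_smul_one,
        TensorProduct.smul_tmul]
  -- evaluate at the pair (1, point of the kernel)
  let ε' : A →ₐ[k] Q f := (Algebra.ofId k (Q f)).comp (Bialgebra.counitAlgHom k A)
  have hl : ∀ b : Laur k r, ε' (f b) = qp f (f b) := fun b => by
    have h := congrArg (fun p : Pt k (Laur k r) (Q f) => p.ofConv b) (pre_qp f)
    refine Eq.trans ?_ h.symm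
    show algebraMap k (Q f) (Coalgebra.counit (R := k) (f b)) = (1 : Pt k (Laur k r) (Q f)).ofConv b
    rw [one_apply, CoalgHomClass.counit_comp_apply]
  let l : A →ₐ[Laur k r] Q f :=
    { ε'.toRingHom with commutes' := fun b => hl b }
  let rr : A →ₐ[Laur k r] Q f :=
    { (qp f).toRingHom with commutes' := fun b => rfl }
  let Ev : A ⊗[Laur k r] A →ₐ[k] Q f :=
    (Algebra.TensorProduct.lift l rr fun _ _ => Commute.all _ _).restrictScalars k
  have hEvT : post Ev T = toConv (qp f) := by
    have eL : post Ev (toConv L : Pt k A _) = 1 :=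
      WithConv.ext (AlgHom.ext fun a => by
        rw [post_apply, one_apply]
        simp [Ev, L, l, ε'])
    have eR : post Ev (toConv R2 : Pt k A _) = toConv (qp f) :=
      WithConv.ext (AlgHom.ext fun a => by
        rw [post_apply]
        simp [Ev, R2, rr])
    rw [map_mul, post_pinv, eL, eR]
    have h1 : pinv (1 : Pt k A (Q f)) = 1 := by
      conv_rhs => rw [← pinv_mul (1 : Pt k A (Q f))]
      exact (_root_.mul_one _).symm
    rw [h1]
    exact _root_.one_mul _
  have h2 : qp f e = algebraMap k (Q f) (Coalgebra.counit a) := by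
    have h3 := congrArg Ev ha
    rw [show Ev w = (post Ev T).ofConv e from rfl, hEvT] at h3
    refine h3.trans ?_
    show (Algebra.TensorProduct.lift l rr fun _ _ => Commute.all _ _) (a ⊗ₜ[Laur k r] (1 : A)) = _
    rw [Algebra.TensorProduct.lift_tmul, map_one, mul_one]
    rfl
  obtain ⟨φ, hφ⟩ := exists_factor f (R := k) (x := 1) (map_one _)
  have h4 := congrArg φ h2
  rw [AlgHom.commutes, ← post_apply φ (toConv (qp f)) e, hφ, one_apply, he.counit, map_one] at h4
  rw [h2]
  exact (congrArg (algebraMap k (Q f)) h4.symm).trans (map_one _)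

/-- **the kernel is connected** -/
theorem idempotent_eq (f : Laur k r →ₐc[k] A) (hf : Function.Injective f)
    (hgl : ∀ a : A, IsGroupLikeElem k a → a ∈ Set.range f) {z : Q f} (hz : IsIdempotentElem z) :
    z = 0 ∨ z = 1 := by
  obtain ⟨e, he⟩ := exists_idLift f
  have h1 := idLift_eq_one he hf hgl
  obtain ⟨a, ha⟩ := Ideal.Quotient.mkₐ_surjective k (J f) z
  have hza : qp f a = z := ha
  obtain ⟨φ, hφ⟩ := exists_factor f (R := k) (x := 1) (map_one _)
  have hεa : φ z = Coalgebra.counit (R := k) a := by
    rw [← hza, ← post_apply φ (toConv (qp f)) a, hφ, one_apply]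
    rfl
  rcases isIdempotentElem_eq_zero_or (hz.map φ) with h0 | h0
  · left
    have h2 := he.least (1 - a) (by rw [map_sub, map_one, hza]; exact hz.one_sub)
      (by rw [map_sub, ← hεa, h0, sub_zero, Bialgebra.counit_one])
    rw [h1, mul_one, map_sub, map_one, hza, sub_eq_self] at h2
    exact h2
  · right
    have h2 := he.least a (by rw [hza]; exact hz) (hεa.symm.trans h0)
    rwa [h1, mul_one, hza] at h2

end Groth.L08.TorusQuot
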