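import Groth.Agent.L08.TorusQuot.Affine
import Groth.Agent.L08.TorusQuot.Fibres
import Groth.Agent.S3280
import Groth.Agent.L08.AffHull.AntiAffine
import Groth.Agent.L08.UnitChar
import Groth.Agent.L08.Cube.SliceFibre

/-!
# The largest torus quotient of a connected algebraic group
-/

set_option autoImplicit false
set_option backward.isDefEq.respectTransparency.types false
set_option linter.style.haveILetI false

universe u

open CategoryTheory MonoidalCategory CartesianMonoidalCategory MonObj GrpObj AlgebraicGeometry CategoryTheory.Limits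

namespace Groth.L08.TorusQuot

set_option maxHeartbeats 400000 in
theorem exists_quotient (k : Type u) [Field k] [IsAlgClosed k]
    (G : Over (Spec (CommRingCat.of k))) [GrpObj G] [Smooth G.hom] [QuasiCompact G.hom] [ConnectedSpace ↥G.left] :
    ∃ (r : ℕ) (q : G ⟶ Groth.L25.Bridge.P k (Laur k r)) (_ : IsMonHom q) (H : Over (Spec (CommRingCat.of k)))
      (_ : GrpObj H) (h : H ⟶ G) (_ : IsMonHom h),
      Flat q.left ∧ Surjective q.left ∧ AlgGrp.IsKernel h q ∧ ConnectedSpace ↥H.left ∧
      (∀ χ : G ⟶ Groth.L25.Bridge.P k (Groth.L08.CentralGm.LZ k), IsMonHom χ →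
        ∃ χ' : Groth.L25.Bridge.P k (Laur k r) ⟶ Groth.L25.Bridge.P k (Groth.L08.CentralGm.LZ k),
          IsMonHom χ' ∧ q ≫ χ' = χ) ∧
      (∀ ψ : H ⟶ Groth.L25.Bridge.P k (Groth.L08.CentralGm.LZ k), IsMonHom ψ → ψ = 1) := by
  haveI : LocallyOfFiniteType G.hom := inferInstance
  haveI := Groth.L08.AffHull.compactSpace (G := G)
  haveI := Groth.L08.AffHull.quasiSeparatedSpace (G := G)
  haveI : AlgebraicGeometry.IsIntegral G.left := Groth.L08.UnitChar.isIntegral_left G
  obtain ⟨hlft, hsurj, hflat, hlfp⟩ := Groth.L08.AffHull.hull_props (G := G)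
  obtain ⟨H0, ⟨e⟩⟩ := (essImage_hopfSpec (G := Grp.mk (Groth.L08.AffHull.hull G))).mpr
    (inferInstanceAs (IsAffine (Groth.L08.AffHull.hull G).left))
  let A := H0.unop
  let eA : Groth.L25.Bridge.P k A ≅ Groth.L08.AffHull.hull G := (Grp.forget _).mapIso e
  haveI : IsMonHom eA.hom := e.hom.hom.isMonHom_hom
  haveI : IsMonHom eA.inv := e.inv.hom.isMonHom_hom
  haveI : IsIso eA.inv.left := inferInstanceAs (IsIso ((Over.forget _).map eA.inv))
  haveI : IsIso eA.hom.left := inferInstanceAs (IsIso ((Over.forget _).map eA.hom))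
  let a : G ⟶ Groth.L25.Bridge.P k A := Groth.L08.AffHull.rho G ≫ eA.inv
  haveI : IsMonHom a := inferInstanceAs (IsMonHom (Groth.L08.AffHull.rho G ≫ eA.inv))
  haveI : Surjective a.left := inferInstanceAs (Surjective ((Groth.L08.AffHull.rho G).left ≫ eA.inv.left))
  haveI : Flat a.left := inferInstanceAs (Flat ((Groth.L08.AffHull.rho G).left ≫ eA.inv.left))
  haveI : LocallyOfFinitePresentation a.left :=
    inferInstanceAs (LocallyOfFinitePresentation ((Groth.L08.AffHull.rho G).left ≫ eA.inv.left))
  haveI : IsDomain A := by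
    have hiso : IsIso a.left.appTop := by
      haveI h1 : IsIso eA.inv.left.appTop := inferInstanceAs (IsIso (eA.inv.left.app ⊤))
      haveI h2 : IsIso (Groth.L08.AffHull.rho G).left.appTop := inferInstance
      rw [show a.left = (Groth.L08.AffHull.rho G).left ≫ eA.inv.left from rfl, Scheme.Hom.comp_appTop]
      exact IsIso.comp_isIso' h1 h2
    haveI : Nonempty (⊤ : G.left.Opens).toScheme :=
      ⟨G.left.topIso.inv (Classical.arbitrary G.left)⟩
    let aiso := @asIso _ _ _ _ _ hiso
    exact ((Scheme.ΓSpecIso (CommRingCat.of A)).symm ≪≫ aiso).commRingCatIsoToRingEquiv.toMulEquiv.isDomain _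
  haveI : Algebra.FiniteType k A := by
    have h : LocallyOfFiniteType (Groth.L25.Bridge.P k A).hom := by
      rw [← Over.w eA.hom]; infer_instance
    change LocallyOfFiniteType (Spec.map (CommRingCat.ofHom (algebraMap k A))) at h
    rw [HasRingHomProperty.Spec_iff (P := @LocallyOfFiniteType)] at h
    exact RingHom.finiteType_algebraMap.1 h
  obtain ⟨r, f, hf, hgl⟩ := Groth.L08.TorusQuot.exists_charHom (k := k) (A := A)
  let sf := Groth.L08.TorusQuot.sp f
  have hFF := Groth.L08.HopfImage.faithfullyFlat_of_injective f hf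
  haveI : Flat sf.left := by
    show Flat (Spec.map (CommRingCat.ofHom (f : Groth.L08.TorusQuot.Laur k r →+* A)))
    rw [HasRingHomProperty.Spec_iff (P := @Flat)]
    exact hFF.flat
  haveI : Surjective sf.left := by
    show Surjective (Spec.map (CommRingCat.ofHom (f : Groth.L08.TorusQuot.Laur k r →+* A)))
    exact ⟨(RingHom.FaithfullyFlat.iff_flat_and_comap_surjective.1 hFF).2⟩
  haveI : IsMonHom sf := Groth.L08.TorusQuot.isMonHom_sp f
  let q : G ⟶ Groth.L25.Bridge.P k (Groth.L08.TorusQuot.Laur k r) := a ≫ sf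
  haveI : IsMonHom q := inferInstanceAs (IsMonHom (a ≫ sf))
  haveI : Flat q.left := inferInstanceAs (Flat (a.left ≫ sf.left))
  haveI : Surjective q.left := inferInstanceAs (Surjective (a.left ≫ sf.left))
  obtain ⟨H, gH, h, _, _, -, hH⟩ := Groth.L08.AbelianGrp.exists_kernel q
  haveI : Mono h := Over.mono_of_mono_left h
  haveI : LocallyOfFiniteType (Groth.L25.Bridge.P k A).hom := by
    rw [← Over.w eA.hom]; infer_instance
  obtain ⟨K, gK, j, _, _, -, hK⟩ := Groth.L08.AbelianGrp.exists_kernel sf
  haveI : Mono j := Over.mono_of_mono_left j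
  obtain ⟨hKconn, hKchar⟩ := Groth.L08.TorusQuot.kernel_props f hf hgl K j hK
  haveI := hKconn
  -- the map to the affine kernel is a base change of the map to the hull
  obtain ⟨c, hc, -⟩ := hK.exists_lift (h ≫ a) (toUnit H) (by
    rw [Category.assoc]
    exact hH.w)
  haveI : IsMonHom c := ⟨by rw [← cancel_mono j, Category.assoc, hc, IsMonHom.one_hom, IsMonHom.one_hom],
    by rw [← cancel_mono j, Category.assoc, hc, Category.assoc, IsMonHom.mul_hom, IsMonHom.mul_hom (f := j),
      tensorHom_comp_tensorHom_assoc, hc]⟩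
  have hsq : IsPullback h c a j := by
    refine IsPullback.mk' hc.symm (fun S x y e1 _ => (cancel_mono h).1 e1) (fun S x y e1 => ?_)
    obtain ⟨n, hn, -⟩ := hH.exists_lift x (toUnit S) (by
      show x ≫ a ≫ sf = _
      rw [reassoc_of% e1, hK.w, ← Category.assoc, comp_toUnit])
    exact ⟨n, hn, by rw [← cancel_mono j, Category.assoc, hc, reassoc_of% hn, e1]⟩
  have hsq' : IsPullback h.left c.left a.left j.left := hsq.map (Over.forget _)
  haveI : Surjective c.left := MorphismProperty.of_isPullback (P := @Surjective) hsq' inferInstance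
  haveI : Flat c.left := MorphismProperty.of_isPullback (P := @Flat) hsq' inferInstance
  haveI : LocallyOfFinitePresentation c.left :=
    MorphismProperty.of_isPullback (P := @LocallyOfFinitePresentation) hsq' inferInstance
  haveI : LocallyOfFiniteType H.hom := by rw [← Over.w h]; infer_instance
  haveI : QuasiCompact H.hom := by rw [← Over.w h]; infer_instance
  haveI : LocallyOfFiniteType K.hom := by rw [← Over.w j]; infer_instance
  haveI : IsAffine (Groth.L25.Bridge.P k A).left := inferInstanceAs (IsAffine (Spec (CommRingCat.of A)))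
  haveI : IsAffine K.left := isAffine_of_isAffineHom j.left
  haveI : QuasiCompact K.hom := inferInstance
  -- the anti-affine part
  obtain ⟨N, gN, i, _, _, -, hN⟩ := Groth.L08.AbelianGrp.exists_kernel (Groth.L08.AffHull.rho G)
  haveI : Mono i := Over.mono_of_mono_left i
  have hO := Groth.L08.AffHull.isIso_appTop_kernel i hN
  haveI : ConnectedSpace N.left := Groth.L08.AffHull.connectedSpace_of_antiAffine N hO
  haveI : LocallyOfFiniteType N.hom := by rw [← Over.w i]; infer_instance
  haveI : QuasiCompact N.hom := by rw [← Over.w i]; infer_instance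
  have hia : i ≫ a = 1 := by
    show i ≫ Groth.L08.AffHull.rho G ≫ eA.inv = 1
    rw [reassoc_of% hN.w, ← Category.assoc, ← Hom.one_def, MonObj.one_comp]
  obtain ⟨m, hm, -⟩ := hH.exists_lift i (toUnit N) (by
    show i ≫ a ≫ sf = _
    rw [reassoc_of% hia, MonObj.one_comp, Hom.one_def])
  haveI : IsMonHom m := ⟨by rw [← cancel_mono h, Category.assoc, hm, IsMonHom.one_hom, IsMonHom.one_hom],
    by rw [← cancel_mono h, Category.assoc, hm, Category.assoc, IsMonHom.mul_hom, IsMonHom.mul_hom (f := h),
      tensorHom_comp_tensorHom_assoc, hm]⟩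
  have hmc : m ≫ c = 1 := by
    rw [← cancel_mono j, Category.assoc, hc, reassoc_of% hm, hia, MonObj.one_comp]
  haveI : Mono eA.inv := inferInstance
  have hlift : ∀ (S : Over (Spec (CommRingCat.of k))) (x : S ⟶ H), x ≫ c = 1 → ∃ n : S ⟶ N, n ≫ m = x := by
    intro S x hx
    obtain ⟨n, hn, -⟩ := hN.exists_lift (x ≫ h) (toUnit S) (by
      have h1 : x ≫ h ≫ a = 1 := by rw [← hc, reassoc_of% hx, MonObj.one_comp]
      rw [← cancel_mono eA.inv, Category.assoc, Category.assoc]
      refine h1.trans ?_
      rw [← Hom.one_def, MonObj.one_comp])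
    exact ⟨n, by rw [← cancel_mono h, Category.assoc, hm, hn]⟩
  refine ⟨r, q, inferInstance, H, gH, h, inferInstance, inferInstance,
    inferInstance, hH, ?_, fun χ' hχ => ?_, fun ψ hψ => ?_⟩
  · -- connectedness
    haveI : JacobsonSpace K.left := LocallyOfFiniteType.jacobsonSpace K.hom
    haveI : JacobsonSpace H.left := LocallyOfFiniteType.jacobsonSpace H.hom
    refine Groth.L08.TorusQuot.connectedSpace_of_open_surjective (fun x => c.left x) c.left.isOpenMap
      c.left.surjective fun y hy => ?_
    have hcl : IsClosed ((fun x => c.left x) ⁻¹' {y}) := hy.preimage c.left.continuous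
    obtain ⟨y', hy'⟩ := c.left.surjective y
    obtain ⟨x, hx, hxc⟩ := nonempty_inter_closedPoints (Z := (fun x => c.left x) ⁻¹' {y}) ⟨y', hy'⟩
      hcl.isLocallyClosed
    obtain ⟨p, hp⟩ := Groth.L08.Cube.exists_kpt x hxc
    let t : N ⟶ H := m * (toUnit N ≫ p)
    have ht : IsPullback t (toUnit N) c (p ≫ c) := by
      haveI : Mono m := mono_of_mono_fac hm
      refine IsPullback.mk' ?_ (fun S x1 y1 e1 _ => ?_) (fun S x1 y1 e1 => ?_)
      · rw [MonObj.mul_comp, hmc, _root_.one_mul, Category.assoc]
      · simp only [t, MonObj.comp_mul, ← Category.assoc, comp_toUnit, mul_left_inj, cancel_mono] at e1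
        exact e1
      · obtain ⟨n, hn⟩ := hlift S (x1 * (y1 ≫ p)⁻¹) (by
          rw [MonObj.mul_comp, GrpObj.inv_comp, e1, Category.assoc, mul_inv_cancel])
        refine ⟨n, ?_, toUnit_unique _ _⟩
        simp only [t, MonObj.comp_mul, ← Category.assoc, comp_toUnit, hn, toUnit_unique (toUnit S) y1,
          inv_mul_cancel_right]
    have hr : Set.range t.left = c.left ⁻¹' Set.range (p ≫ c).left :=
      Groth.L08.TorusQuot.range_of_isPullback (ht.map (Over.forget _))
    have hfib : (fun x => c.left x) ⁻¹' {y} = Set.range t.left := by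
      refine Eq.trans ?_ hr.symm
      congr 1
      ext w
      constructor
      · intro hw
        refine ⟨IsLocalRing.closedPoint k, ?_⟩
        rw [Set.mem_singleton_iff.1 hw, Over.comp_left, Scheme.Hom.comp_apply]
        exact (congrArg c.left hp).trans hx
      · rintro ⟨s, rfl⟩
        have hs : s = IsLocalRing.closedPoint k := Subsingleton.elim (α := PrimeSpectrum k) _ _
        subst hs
        show (p ≫ c).left _ = y
        rw [Over.comp_left, Scheme.Hom.comp_apply]
        exact (congrArg c.left hp).trans hx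
    rw [hfib]
    exact isPreconnected_range t.left.continuous
  · -- characters of the group
    haveI := hχ
    haveI : IsAffine (Groth.L25.Bridge.P k (Groth.L08.CentralGm.LZ k)).left :=
      inferInstanceAs (IsAffine (Spec (CommRingCat.of (Groth.L08.CentralGm.LZ k))))
    obtain ⟨g, _, hg⟩ := Groth.L08.AffHull.exists_hom G χ'
    obtain ⟨cb, hcb⟩ := Groth.L08.TorusQuot.exists_sp (eA.hom ≫ g)
    obtain ⟨cv, hcv⟩ := Groth.L08.TorusQuot.exists_sp_factor f hf hgl cb
    refine ⟨Groth.L08.TorusQuot.sp cv, inferInstance, ?_⟩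
    show (a ≫ sf) ≫ Groth.L08.TorusQuot.sp cv = χ'
    rw [Category.assoc, hcv, hcb]
    show (Groth.L08.AffHull.rho G ≫ eA.inv) ≫ eA.hom ≫ g = χ'
    rw [Category.assoc, Iso.inv_hom_id_assoc, hg]
  · -- characters of the kernel
    haveI := hψ
    let P1 := Groth.L25.Bridge.P k (Groth.L08.CentralGm.LZ k)
    haveI : IsAffine P1.left := inferInstanceAs (IsAffine (Spec (CommRingCat.of (Groth.L08.CentralGm.LZ k))))
    haveI : LocallyOfFiniteType P1.hom := by
      show LocallyOfFiniteType (Spec.map (CommRingCat.ofHom (algebraMap k (Groth.L08.CentralGm.LZ k))))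
      rw [HasRingHomProperty.Spec_iff (P := @LocallyOfFiniteType)]
      exact RingHom.finiteType_algebraMap.2 inferInstance
    haveI : QuasiCompact P1.hom := inferInstance
    have hker : AlgGrp.IsKernel m c := by
      refine IsPullback.mk' ?_ (fun S x1 y1 e1 _ => ?_) (fun S x1 y1 e1 => ?_)
      · rw [hmc, Hom.one_def]
      · haveI : Mono m := mono_of_mono_fac hm
        exact (cancel_mono m).1 e1
      · obtain ⟨n, hn⟩ := hlift S x1 (by rw [e1, toUnit_unique y1 (toUnit S), Hom.one_def])
        exact ⟨n, hn, toUnit_unique _ _⟩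
    obtain ⟨φ, hφhom, hφ, -⟩ := Groth.Agent.S3280.result k H N K P1 c m hker ψ (by
      have := Groth.L08.AffHull.hom_eq_one hO (m ≫ ψ)
      rw [this, Hom.one_def])
    rw [hKchar φ hφhom, MonObj.comp_one] at hφ
    exact hφ.symm

end Groth.L08.TorusQuot
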