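import Groth.Agent.L08.HopfDim
import Groth.Agent.L08.KrullHopf
import Mathlib.RingTheory.HopfAlgebra.Convolution
import Mathlib.RingTheory.TensorProduct.Finite

/-!
# Points of Hopf algebras: functoriality and idempotents
-/

set_option autoImplicit false
set_option linter.style.haveILetI false

universe u v

open TensorProduct WithConv

noncomputable section

namespace Groth.L08.TorusQuot

variable {k : Type u} [Field k] {A B : Type u} [CommRing A] [HopfAlgebra k A] [CommRing B] [HopfAlgebra k B]
  {R R' : Type u} [CommRing R] [Algebra k R] [CommRing R'] [Algebra k R']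

variable (k A) in
/-- points with values in an algebra -/
abbrev Pt (R : Type u) [CommRing R] [Algebra k R] : Type u := WithConv (A →ₐ[k] R)

/-- functoriality in the algebra of values -/
def post (φ : R →ₐ[k] R') : Pt k A R →* Pt k A R' where
  toFun x := toConv (φ.comp x.ofConv)
  map_one' := WithConv.ext (AlgHom.ext fun a => by simp)
  map_mul' x y := congrArg toConv (AlgHom.comp_convMul_distrib φ x y)

@[simp] theorem post_apply (φ : R →ₐ[k] R') (x : Pt k A R) (a : A) : (post φ x).ofConv a = φ (x.ofConv a) := rfl

theorem post_post {R'' : Type u} [CommRing R''] [Algebra k R''] (φ : R →ₐ[k] R') (ψ : R' →ₐ[k] R'')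
    (x : Pt k A R) : post ψ (post φ x) = post (ψ.comp φ) x := rfl

/-- functoriality in the Hopf algebra -/
def pre (f : B →ₐc[k] A) : Pt k A R →* Pt k B R where
  toFun x := toConv (x.ofConv.comp f.toAlgHom)
  map_one' := WithConv.ext (AlgHom.ext fun a => by simp [AlgHom.convOne_def])
  map_mul' x y := congrArg toConv (AlgHom.convMul_comp_bialgHom_distrib x y f)

@[simp] theorem pre_apply (f : B →ₐc[k] A) (x : Pt k A R) (b : B) : (pre f x).ofConv b = x.ofConv (f b) := rfl

theorem pre_post (f : B →ₐc[k] A) (φ : R →ₐ[k] R') (x : Pt k A R) : pre f (post φ x) = post φ (pre f x) := rfl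

/-- the points killing the ideal of the identity of the quotient -/
theorem pre_eq_one_iff (f : B →ₐc[k] A) (x : Pt k A R) :
    pre f x = 1 ↔
      Ideal.map (f : B →+* A) (RingHom.ker (Bialgebra.counitAlgHom k B)) ≤ RingHom.ker x.ofConv := by
  constructor
  · intro h
    rw [Ideal.map_le_iff_le_comap]
    intro b hb
    have hb' : Coalgebra.counit (R := k) b = 0 := hb
    show x.ofConv (f b) = 0
    rw [← pre_apply, h, AlgHom.convOne_apply, hb', map_zero]
  · intro h
    refine WithConv.ext (AlgHom.ext fun b => ?_)
    rw [AlgHom.convOne_apply, pre_apply]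
    have hb : b - algebraMap k B (Coalgebra.counit (R := k) b) ∈ RingHom.ker (Bialgebra.counitAlgHom k B) := by
      simp [RingHom.mem_ker]
    have h2 : x.ofConv (f (b - algebraMap k B (Coalgebra.counit (R := k) b))) = 0 :=
      h (Ideal.mem_map_of_mem _ hb)
    rw [map_sub, map_sub, AlgHomClass.commutes, AlgHom.commutes, sub_eq_zero] at h2
    exact h2

theorem one_apply (a : A) : (1 : Pt k A R).ofConv a = algebraMap k R (Coalgebra.counit a) :=
  AlgHom.convOne_apply a

theorem isIdempotentElem_eq_zero_or {S : Type u} [CommRing S] [IsDomain S] {z : S} (hz : IsIdempotentElem z) :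
    z = 0 ∨ z = 1 :=
  IsIdempotentElem.iff_eq_zero_or_one.1 hz

section Closed

variable [IsAlgClosed k] [Algebra.FiniteType k R]

/-- an element which is nonzero at all points is a unit -/
theorem isUnit_of_points {a : R} (h : ∀ χ : R →ₐ[k] k, χ a ≠ 0) : IsUnit a := by
  by_contra ha
  obtain ⟨m, hm, ham⟩ := exists_max_ideal_of_mem_nonunits ha
  haveI := hm
  obtain ⟨χ, rfl⟩ := HopfDim.exists_point (k := k) m
  exact h χ ham

/-- an idempotent which is one at all points is one -/
theorem eq_one_of_points {z : R} (hz : IsIdempotentElem z) (h : ∀ χ : R →ₐ[k] k, χ z = 1) : z = 1 :=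
  (IsIdempotentElem.iff_eq_one_of_isUnit (isUnit_of_points (k := k) fun χ => by rw [h χ]; exact one_ne_zero)).1 hz

/-- idempotents are determined by their values at points -/
theorem idem_ext {z z' : R} (hz : IsIdempotentElem z) (hz' : IsIdempotentElem z')
    (h : ∀ χ : R →ₐ[k] k, χ z = χ z') : z = z' := by
  have key : ∀ a b : R, IsIdempotentElem a → IsIdempotentElem b → (∀ χ : R →ₐ[k] k, χ a = χ b) → a = a * b := by
    intro a b ha hb hab
    have hid : IsIdempotentElem (1 - a * (1 - b)) := (ha.mul hb.one_sub).one_sub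
    have h1 : 1 - a * (1 - b) = 1 := by
      refine eq_one_of_points (k := k) hid fun χ => ?_
      have hb1 : χ b * χ b = χ b := by rw [← map_mul]; exact congrArg χ hb
      rw [map_sub, map_mul, map_sub, map_one, hab χ, mul_sub, mul_one, hb1, sub_self, sub_zero]
    linear_combination -h1
  exact (key z z' hz hz' h).trans ((mul_comm z z').trans (key z' z hz' hz fun χ => (h χ).symm).symm)

theorem eq_of_points [IsReduced R] [IsDomain R] {a b : R} (h : ∀ χ : R →ₐ[k] k, χ a = χ b) : a = b := by
  by_contra hne
  obtain ⟨χ, -, hχ⟩ := KrullHopf.exists_point_notMem k (⊥ : Ideal R) (a := a - b)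
    (by rwa [Ideal.mem_bot, sub_eq_zero])
  exact hχ (by rw [map_sub, h χ, sub_self])

end Closed

/-- a Noetherian ring has only finitely many idempotents -/
theorem finite_idempotents (S : Type u) [CommRing S] [IsNoetherianRing S] :
    {f : S | IsIdempotentElem f}.Finite := by
  classical
  have hfin : (minimalPrimes S).Finite := minimalPrimes.finite_of_isNoetherianRing S
  refine Set.Finite.of_finite_image (f := fun f => {P ∈ minimalPrimes S | f ∈ P})
    (hfin.finite_subsets.subset (by rintro _ ⟨f, -, rfl⟩ P hP; exact hP.1)) ?_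
  have key : ∀ a b : S, IsIdempotentElem a → IsIdempotentElem b →
      (∀ P ∈ minimalPrimes S, b ∈ P → a ∈ P) → a = a * b := by
    intro a b ha hb hab
    have hnil : a * (1 - b) ∈ nilradical S := by
      rw [nilradical, ← Ideal.sInf_minimalPrimes, Submodule.mem_sInf]
      intro P hP
      haveI := hP.1.1
      by_cases hbP : b ∈ P
      · exact Ideal.mul_mem_right _ P (hab P hP hbP)
      · refine Ideal.mul_mem_left P _ ((Ideal.IsPrime.mem_or_mem ‹_› (?_ : b * (1 - b) ∈ P)).resolve_left hbP)
        rw [mul_sub, mul_one, hb.eq, sub_self]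
        exact Submodule.zero_mem P
    have h0 : a * (1 - b) = 0 :=
      ((ha.mul hb.one_sub).eq_zero_of_isNilpotent hnil)
    linear_combination h0
  intro a ha b hb hab
  simp only [Set.ext_iff, Set.mem_ofPred_eq] at hab
  have h1 := key a b ha hb fun P hP h => ((hab P).2 ⟨hP, h⟩).2
  have h2 := key b a hb ha fun P hP h => ((hab P).1 ⟨hP, h⟩).2
  exact h1.trans ((mul_comm a b).trans h2.symm)

end Groth.L08.TorusQuot
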